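import Groth.Agent.Dual3.K478.TorBC
import Groth.Agent.Dual.H306.BCPushQ
import Groth.Agent.LoccohB.SuppInd
import Groth.Agent.PerfA.GenPull
import Groth.Agent.PerfC.RpushBound
import Groth.Agent.S0922

/-!
# Right adjoints of `Rf_*` and tor-independent base change

* `exists_xiIso`: for a tor-independent cartesian square `a' ⋙ Rg'_* ≅ Rg_* ⋙ a` on `D_QCoh`.
* `isZero_HD_of_Rpush`: for `p` affine and `E ∈ D_QCoh`, `H^m(Rp_* E) = 0` implies `H^m(E) = 0`; the same for an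
  affine morphism followed by an open immersion (`isZero_HD_of_Rpush'`, `isLE_of_Rpush`,
  `reflectsIsomorphisms_RpushQ`).
* `small_xiIso`, `preservesCoproducts_small`, `exists_isLE_small`: the right adjoint over a small affine open `W` of
  `Y'` (contained in the preimage of an affine open of `Y`).
-/

set_option autoImplicit false

universe u

open CategoryTheory CategoryTheory.Limits AlgebraicGeometry Pretriangulated

attribute [local instance] HasDerivedCategory.standard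

namespace K478.TorAdj

open Groth.Agent Groth.Agent.LoccohB Groth.Agent.LoccohB.LocAdj Groth.Agent.PerfA.Restrict
  Groth.Agent.LoccohB.SuppInd K478.TorBC

section Square

variable {X Y X' Y' : Scheme.{u}} {f : X ⟶ Y} {g : Y' ⟶ Y} {f' : X' ⟶ Y'} {g' : X' ⟶ X}
  [DCoh.HasRpush f] [DCoh.HasRpush f'] [DCoh.HasRpush g] [DCoh.HasRpush g']
  {hf : DCoh.RpushPreservesQCoh f} {hf' : DCoh.RpushPreservesQCoh f'}
  {hg : DCoh.RpushPreservesQCoh g} {hg' : DCoh.RpushPreservesQCoh g'}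
  {a : DCoh.DQCoh Y ⥤ DCoh.DQCoh X} {a' : DCoh.DQCoh Y' ⥤ DCoh.DQCoh X'}

lemma xi_naturality (adj : DCoh.RpushQ f hf ⊣ a) (adj' : DCoh.RpushQ f' hf' ⊣ a')
    (e : DCoh.RpushQ g' hg' ⋙ DCoh.RpushQ f hf ≅ DCoh.RpushQ f' hf' ⋙ DCoh.RpushQ g hg)
    {M N : DCoh.DQCoh Y'} (φ : M ⟶ N) :
    (DCoh.RpushQ g' hg').map (a'.map φ) ≫ Dual3.xi adj adj' e N =
      Dual3.xi adj adj' e M ≫ a.map ((DCoh.RpushQ g hg).map φ) := by
  rw [Dual3.xi, Dual3.xi, ← adj.homEquiv_naturality_left, ← adj.homEquiv_naturality_right]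
  congr 1
  have h1 := e.hom.naturality (a'.map φ)
  have h2 := congrArg (DCoh.RpushQ g hg).map (adj'.counit_naturality φ)
  rw [Functor.map_comp, Functor.map_comp] at h2
  rw [Category.assoc, ← h2, ← Category.assoc, ← Category.assoc]
  exact congrArg (· ≫ (DCoh.RpushQ g hg).map (adj'.counit.app N)) h1

/-- The maps `ξ`, as a natural isomorphism. -/
noncomputable def xiIso (adj : DCoh.RpushQ f hf ⊣ a) (adj' : DCoh.RpushQ f' hf' ⊣ a')
    (e : DCoh.RpushQ g' hg' ⋙ DCoh.RpushQ f hf ≅ DCoh.RpushQ f' hf' ⋙ DCoh.RpushQ g hg)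
    (h : ∀ M, IsIso (Dual3.xi adj adj' e M)) : a' ⋙ DCoh.RpushQ g' hg' ≅ DCoh.RpushQ g hg ⋙ a :=
  NatIso.ofComponents (fun M => @asIso _ _ _ _ (Dual3.xi adj adj' e M) (h M))
    (fun φ => xi_naturality adj adj' e φ)

/-- `Rg'_* a' ≅ a Rg_*` for a tor-independent square. -/
theorem exists_xiIso [QuasiCompact f] [QuasiSeparated f] (sq : IsPullback g' f' f g)
    (htor : TorIndep f g) (hg : DCoh.RpushPreservesQCoh g) (hg' : DCoh.RpushPreservesQCoh g')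
    (adj : DCoh.RpushQ f hf ⊣ a) (adj' : DCoh.RpushQ f' hf' ⊣ a') :
    Nonempty (a' ⋙ DCoh.RpushQ g' hg' ≅ DCoh.RpushQ g hg ⋙ a) := by
  have := Dual.H306.BCPushQ.hasLpull' g
  have := Dual.H306.BCPushQ.hasLpull' g'
  obtain ⟨e, he⟩ := Dual.H306.BCPushQ.exists_bcPush_of_bc (hf := hf) (hf' := hf') sq.w
    (fun E hE => bc_tor sq htor E hE)
    (Dual.H306.BCPushQ.lAdjQ (Dual.H306.BCPushQ.lpullPreservesQCoh g) hg)
    (Dual.H306.BCPushQ.lAdjQ (Dual.H306.BCPushQ.lpullPreservesQCoh g') hg')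
  exact ⟨xiIso adj adj' e (Dual.H306.BCPushQ.isIso_xi adj adj' e _ _ he)⟩

end Square


section Small

variable {X Y X' Y' : Scheme.{u}} (f : X ⟶ Y) (g : Y' ⟶ Y) (f' : X' ⟶ Y') (g' : X' ⟶ X)
  (sq : IsPullback g' f' f g) (W : Y'.Opens) (V : Y.Opens) (hWV : W ≤ g ⁻¹ᵁ V)

include sq in
/-- The square over `W ⟶ Y`. -/
theorem isPullback_small : IsPullback ((f' ⁻¹ᵁ W).ι ≫ g') (f' ∣_ W) f (W.ι ≫ g) :=
  (isPullback_morphismRestrict f' W).flip.paste_horiz sq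

include hWV in
lemma range_le : Set.range (W.ι ≫ g) ⊆ Set.range V.ι := by
  rintro _ ⟨y, rfl⟩
  rw [Scheme.Opens.range_ι]
  exact hWV y.2

/-- `W ⟶ V`. -/
noncomputable def pWV : (W : Scheme.{u}) ⟶ V := IsOpenImmersion.lift V.ι (W.ι ≫ g) (range_le g W V hWV)

lemma pWV_ι : pWV g W V hWV ≫ V.ι = W.ι ≫ g := IsOpenImmersion.lift_fac _ _ _

include sq hWV in
lemma range_le' : Set.range ((f' ⁻¹ᵁ W).ι ≫ g') ⊆ Set.range (f ⁻¹ᵁ V).ι := by
  rintro _ ⟨y, rfl⟩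
  rw [Scheme.Opens.range_ι]
  have h1 : f (((f' ⁻¹ᵁ W).ι ≫ g') y) = g (f' ((f' ⁻¹ᵁ W).ι y)) := by
    have := congr($(sq.w) ((f' ⁻¹ᵁ W).ι y))
    simpa using this
  change f (((f' ⁻¹ᵁ W).ι ≫ g') y) ∈ V
  rw [h1]
  exact hWV y.2

/-- `f'⁻¹(W) ⟶ f⁻¹(V)`. -/
noncomputable def qWV : (f' ⁻¹ᵁ W : Scheme.{u}) ⟶ (f ⁻¹ᵁ V) :=
  IsOpenImmersion.lift (f ⁻¹ᵁ V).ι ((f' ⁻¹ᵁ W).ι ≫ g') (range_le' f g f' g' sq W V hWV)

lemma qWV_ι : qWV f g f' g' sq W V hWV ≫ (f ⁻¹ᵁ V).ι = (f' ⁻¹ᵁ W).ι ≫ g' := IsOpenImmersion.lift_fac _ _ _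

theorem isPullback_qWV : IsPullback (qWV f g f' g' sq W V hWV) (f' ∣_ W) (f ∣_ V) (pWV g W V hWV) := by
  refine IsPullback.of_right (h₁₂ := (f ⁻¹ᵁ V).ι) (h₂₂ := V.ι) (v₁₃ := f) ?_ ?_
    (isPullback_morphismRestrict f V).flip
  · rw [qWV_ι, pWV_ι]
    exact isPullback_small f g f' g' sq W
  · rw [← cancel_mono V.ι, Category.assoc, Category.assoc, morphismRestrict_ι, pWV_ι, ← Category.assoc,
      qWV_ι, Category.assoc, sq.w, ← Category.assoc, ← Category.assoc, morphismRestrict_ι]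

theorem isAffineHom_qWV (hW : IsAffineOpen W) (hV : IsAffineOpen V) :
    IsAffineHom (qWV f g f' g' sq W V hWV) := by
  have : IsAffine W := hW
  have : IsAffine V := hV
  have : IsAffineHom (pWV g W V hWV) := inferInstance
  exact MorphismProperty.of_isPullback (isPullback_qWV f g f' g' sq W V hWV).flip this

end Small


section AffPush

open DerivedCategory Groth.Agent.PerfA Groth.Agent.PerfA.Hyp1 Groth.Agent.PerfA.GenPull Opposite
  TopologicalSpace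

variable {X Y : Scheme.{u}}

/-- For `p` affine and `E ∈ D_QCoh`, `H^m(Rp_* E) = 0` implies `H^m(E) = 0`. -/
theorem isZero_HD_of_Rpush (p : X ⟶ Y) [IsAffineHom p] [DCoh.HasRpush p] (E : DCoh.D X)
    (hE : DCoh.IsQCohD E) (m : ℤ) (h : IsZero (DCoh.HD ((DCoh.Rpush p).obj E) m)) :
    IsZero (DCoh.HD E m) := by
  obtain ⟨K, ⟨e⟩⟩ : ∃ K : CochainComplex X.Modules ℤ, Nonempty (Q.obj K ≅ E) :=
    ⟨_, ⟨Q.objObjPreimageIso E⟩⟩
  obtain ⟨I, i, h1, h2⟩ := ExtPush.enoughKInjectives X K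
  let e3 : Q.obj I ≅ E := (asIso (Q.map i)).symm ≪≫ e
  obtain ⟨e2⟩ := ExtPush.rpush_iso p I
  have hI : DCoh.IsQCohD (Q.obj I) := QCohD.isQCohD_of_iso e3.symm hE
  have h4 : (GenPull.pushCx p I).ExactAt m := by
    rw [HomologicalComplex.exactAt_iff_isZero_homology]
    refine ((homologyFunctorFactors Y.Modules m).app (GenPull.pushCx p I)).isZero_iff.1 ?_
    exact ((homologyFunctor Y.Modules m).mapIso (e2 ≪≫ (DCoh.Rpush p).mapIso e3)).isZero_iff.2 h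
  refine ((homologyFunctor X.Modules m).mapIso e3).isZero_iff.1 ?_
  refine isZero_of_affine_sections (DCoh.HD (Q.obj I) m) (hI m) fun x => ?_
  obtain ⟨V, hV, hxV, -⟩ := exists_isAffineOpen_mem_and_subset (x := p x) (U := (⊤ : Y.Opens)) trivial
  refine ⟨p ⁻¹ᵁ V, hV.preimage p, hxV, fun s => ?_⟩
  obtain ⟨φ, rfl⟩ := (HypAffine.toHD_bijective (Q.obj I) hI (p ⁻¹ᵁ V) (hV.preimage p) m).2 s
  have h5 := fun y hy => exists_res_eq_zero p I m h4 V φ y hy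
  choose V' hV' hy hres using h5
  refine TopCat.Sheaf.eq_of_locally_eq' ⟨(DCoh.HD (Q.obj I) m).presheaf, (DCoh.HD (Q.obj I) m).isSheaf⟩
    (fun y : V => p ⁻¹ᵁ (V' y.1 y.2)) (p ⁻¹ᵁ V) (fun y => homOfLE fun _ hx => hV' y.1 y.2 hx)
    (fun x hx => ?_) _ _ fun y => ?_
  · exact Opens.mem_iSup.2 ⟨⟨p x, hx⟩, hy _ _⟩
  · have h6 := toHD_res (show p ⁻¹ᵁ (V' y.1 y.2) ≤ p ⁻¹ᵁ V from fun _ hx => hV' y.1 y.2 hx) φ
    rw [hres, toHD_zero] at h6
    exact h6.symm.trans (map_zero _).symm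

end AffPush

lemma isLE_of_iso' {X : Scheme.{u}} {A B : DCoh.D X} (e : A ≅ B) (n : ℤ) (h : A.IsLE n) : B.IsLE n := by
  rw [DerivedCategory.isLE_iff] at h ⊢
  exact fun i hi => (h i hi).of_iso ((DerivedCategory.homologyFunctor _ i).mapIso e).symm

/-- `(Rh_* E)|_U ≅ Rq_* E` if `h = q ≫ U.ι`. -/
theorem exists_restrict_iso {X Z : Scheme.{u}} (U : X.Opens) (q : Z ⟶ U) (h : Z ⟶ X) (e : q ≫ U.ι = h)
    [DCoh.HasRpush h] [DCoh.HasRpush q] :
    Nonempty (DCoh.Rpush h ⋙ restrictD U.ι ≅ DCoh.Rpush q) := by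
  subst e
  have := Dcoh.DerSch.hasRpush U.ι
  obtain ⟨i⟩ := S0922.result q U.ι
  have := SuppInd.isIso_counit U
  exact ⟨Functor.isoWhiskerRight i.symm _ ≪≫ Functor.associator _ _ _ ≪≫
    Functor.isoWhiskerLeft _ (asIso (SuppInd.adjD U).counit) ≪≫ Functor.rightUnitor _⟩

section Small2

variable {X Z : Scheme.{u}} (U : X.Opens) (q : Z ⟶ U) [IsAffineHom q] (h : Z ⟶ X) (e : q ≫ U.ι = h)
  [DCoh.HasRpush h]

include e in
/-- `Rh_*` is conservative on cohomology sheaves, for `h` an affine morphism followed by an open immersion. -/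
theorem isZero_HD_of_Rpush' (E : DCoh.D Z) (hE : DCoh.IsQCohD E) (m : ℤ)
    (h0 : IsZero (DCoh.HD ((DCoh.Rpush h).obj E) m)) : IsZero (DCoh.HD E m) := by
  have := Dcoh.DerSch.hasRpush q
  obtain ⟨i⟩ := exists_restrict_iso U q h e
  refine isZero_HD_of_Rpush q E hE m ?_
  have h1 := ((Scheme.Modules.restrictFunctor U.ι).map_isZero h0).of_iso
    (HDrestrict U.ι ((DCoh.Rpush h).obj E) m)
  exact h1.of_iso ((DerivedCategory.homologyFunctor _ m).mapIso (i.app E)).symm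

include e in
theorem isLE_of_Rpush (E : DCoh.D Z) (hE : DCoh.IsQCohD E) (m : ℤ)
    (h0 : ((DCoh.Rpush h).obj E).IsLE m) : E.IsLE m := by
  rw [DerivedCategory.isLE_iff] at h0 ⊢
  exact fun i hi => isZero_HD_of_Rpush' U q h e E hE i (h0 i hi)

include e in
theorem isZero_of_Rpush (E : DCoh.D Z) (hE : DCoh.IsQCohD E) (h0 : IsZero ((DCoh.Rpush h).obj E)) :
    IsZero E :=
  (PerfA.ExactD.isZero_iff _).2 fun m => isZero_HD_of_Rpush' U q h e E hE m
    ((PerfA.ExactD.isZero_iff _).1 h0 m)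

include e in
theorem reflectsIsomorphisms_RpushQ (hh : Pres h) : (Rq h hh).ReflectsIsomorphisms := by
  refine ⟨fun {A B} φ hφ => ?_⟩
  let _ := Dcoh.DerSch.rpushCommShift h
  have := Dcoh.DerSch.rpush_isTriangulated h
  obtain ⟨C, v, w, hT⟩ := distinguished_cocone_triangle φ
  refine (Triangle.isZero₃_iff_isIso₁ _ hT).1 ?_
  have h1 : IsZero ((Rq h hh).obj C) :=
    (Triangle.isZero₃_iff_isIso₁ _ ((Rq h hh).map_distinguished _ hT)).2 hφ
  have h2 : IsZero C.obj := isZero_of_Rpush U q h e C.obj C.property ((ObjectProperty.ι _).map_isZero h1)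
  exact (IsZero.iff_id_eq_zero _).2 (by
    ext
    exact h2.eq_of_src _ _)

end Small2


section Right

variable {X Y X' Y' : Scheme.{u}} [CompactSpace X] [QuasiSeparatedSpace X] [CompactSpace Y]
  [QuasiSeparatedSpace Y] [CompactSpace X'] [QuasiSeparatedSpace X'] [CompactSpace Y']
  [QuasiSeparatedSpace Y'] {f : X ⟶ Y} {g : Y' ⟶ Y} {f' : X' ⟶ Y'} {g' : X' ⟶ X}
  (sq : IsPullback g' f' f g) (htor : TorIndep f g)
  [DCoh.HasRpush f] (hf : Pres f) (a : DCoh.DQCoh Y ⥤ DCoh.DQCoh X) (adj : Rq f hf ⊣ a)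
  (W : Y'.Opens) (hW : IsAffineOpen W)
  [DCoh.HasRpush (f' ∣_ W)] (hfW : Pres (f' ∣_ W)) (aW : DCoh.DQCoh W ⥤ DCoh.DQCoh (f' ⁻¹ᵁ W))
  (adjW : Rq (f' ∣_ W) hfW ⊣ aW)

omit [CompactSpace X'] [CompactSpace Y'] [QuasiSeparatedSpace Y'] [QuasiSeparatedSpace X'] [CompactSpace Y] in
include sq htor adj adjW in
/-- `Rh'_* a_W ≅ a Rh_*`, `h : W ⟶ Y`. -/
theorem small_xiIso [DCoh.HasRpush (W.ι ≫ g)] (hh : Pres (W.ι ≫ g))
    [DCoh.HasRpush ((f' ⁻¹ᵁ W).ι ≫ g')] (hh' : Pres ((f' ⁻¹ᵁ W).ι ≫ g')) :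
    Nonempty (aW ⋙ Rq ((f' ⁻¹ᵁ W).ι ≫ g') hh' ≅ Rq (W.ι ≫ g) hh ⋙ a) := by
  have : QuasiSeparated f := (quasiSeparated_iff_quasiSeparatedSpace f).2 inferInstance
  exact exists_xiIso (hf := hf) (hf' := hfW) (isPullback_small f g f' g' sq W)
    (htor.restrict (𝟙 X) (𝟙 Y) W.ι f (W.ι ≫ g) (by simp) (by simp)) hh hh' adj adjW

/-- `Rh_*` commutes with coproducts on `D_QCoh`. -/
lemma preservesCoproducts_Rq {X Z : Scheme.{u}} (h : X ⟶ Z) [QuasiCompact h] [QuasiSeparated h]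
    [DCoh.HasRpush h] (hh : Pres h) (J : Type u) :
    PreservesColimitsOfShape (Discrete J) (Rq h hh) :=
  FullSubTri.preservesColimitsOfShape_lift DCoh.IsQCohD DCoh.IsQCohD (DCoh.Rpush h)
    (fun K => hh K.obj K.property) (RightAdj.preservesCoproducts h J)

variable (V : Y.Opens) (hV : IsAffineOpen V) (hWV : W ≤ g ⁻¹ᵁ V)

omit [CompactSpace Y] in
include sq htor adj adjW hW hV hWV in
/-- If `a` commutes with coproducts, so does `a_W`. -/
theorem preservesCoproducts_small (J : Type u) [PreservesColimitsOfShape (Discrete J) a] :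
    PreservesColimitsOfShape (Discrete J) aW := by
  have : IsAffine W := hW
  have : CompactSpace W := inferInstance
  have : QuasiSeparatedSpace (f' ⁻¹ᵁ W : Scheme.{u}) :=
    quasiSeparatedSpace_of_quasiSeparated (f' ⁻¹ᵁ W).ι
  have : QuasiSeparated f := (quasiSeparated_iff_quasiSeparatedSpace f).2 inferInstance
  have : QuasiSeparated f' := (quasiSeparated_iff_quasiSeparatedSpace f').2 inferInstance
  have : CompactSpace (f' ⁻¹ᵁ W : Scheme.{u}) :=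
    (quasiCompact_iff_compactSpace (f' ∣_ W)).1 inferInstance
  have : QuasiSeparated (W.ι ≫ g) := (quasiSeparated_iff_quasiSeparatedSpace _).2 inferInstance
  have : QuasiSeparated ((f' ⁻¹ᵁ W).ι ≫ g') := (quasiSeparated_iff_quasiSeparatedSpace _).2 inferInstance
  have := Dcoh.DerSch.hasRpush (W.ι ≫ g)
  have := Dcoh.DerSch.hasRpush ((f' ⁻¹ᵁ W).ι ≫ g')
  have hh : Pres (W.ι ≫ g) := fun K hK => S0998.result _ K hK
  have hh' : Pres ((f' ⁻¹ᵁ W).ι ≫ g') := fun K hK => S0998.result _ K hK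
  obtain ⟨i⟩ := small_xiIso sq htor hf a adj W hfW aW adjW hh hh'
  have p1 := preservesCoproducts_Rq (W.ι ≫ g) hh J
  have p2 : PreservesColimitsOfShape (Discrete J) (aW ⋙ Rq ((f' ⁻¹ᵁ W).ι ≫ g') hh') :=
    preservesColimitsOfShape_of_natIso i.symm
  have p3 := preservesCoproducts_Rq ((f' ⁻¹ᵁ W).ι ≫ g') hh' J
  have := isAffineHom_qWV f g f' g' sq W V hWV hW hV
  have p4 := reflectsIsomorphisms_RpushQ (f ⁻¹ᵁ V) (qWV f g f' g' sq W V hWV) _
    (qWV_ι f g f' g' sq W V hWV) hh'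
  have p5 : ReflectsColimitsOfShape (Discrete J) (Rq ((f' ⁻¹ᵁ W).ι ≫ g') hh') :=
    reflectsColimitsOfShape_of_reflectsIsomorphisms
  exact preservesColimitsOfShape_of_reflects_of_preserves aW (Rq ((f' ⁻¹ᵁ W).ι ≫ g') hh')

include sq htor adj adjW hW hV hWV in
/-- If `a` is bounded above, so is `a_W`. -/
theorem exists_isLE_small (hbd : ∃ d : ℤ, ∀ (K : DCoh.DQCoh Y) (n : ℤ), K.obj.IsLE n → (a.obj K).obj.IsLE (n + d)) :
    ∃ d : ℤ, ∀ (K : DCoh.DQCoh W) (n : ℤ), K.obj.IsLE n → (aW.obj K).obj.IsLE (n + d) := by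
  have : IsAffine W := hW
  have : CompactSpace W := inferInstance
  have : QuasiSeparatedSpace (f' ⁻¹ᵁ W : Scheme.{u}) :=
    quasiSeparatedSpace_of_quasiSeparated (f' ⁻¹ᵁ W).ι
  have : QuasiSeparated f := (quasiSeparated_iff_quasiSeparatedSpace f).2 inferInstance
  have : QuasiSeparated f' := (quasiSeparated_iff_quasiSeparatedSpace f').2 inferInstance
  have : CompactSpace (f' ⁻¹ᵁ W : Scheme.{u}) :=
    (quasiCompact_iff_compactSpace (f' ∣_ W)).1 inferInstance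
  have : QuasiSeparated (W.ι ≫ g) := (quasiSeparated_iff_quasiSeparatedSpace _).2 inferInstance
  have : QuasiSeparated ((f' ⁻¹ᵁ W).ι ≫ g') := (quasiSeparated_iff_quasiSeparatedSpace _).2 inferInstance
  have := Dcoh.DerSch.hasRpush (W.ι ≫ g)
  have := Dcoh.DerSch.hasRpush ((f' ⁻¹ᵁ W).ι ≫ g')
  have hh : Pres (W.ι ≫ g) := fun K hK => S0998.result _ K hK
  have hh' : Pres ((f' ⁻¹ᵁ W).ι ≫ g') := fun K hK => S0998.result _ K hK
  obtain ⟨i⟩ := small_xiIso sq htor hf a adj W hfW aW adjW hh hh'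
  have := isAffineHom_qWV f g f' g' sq W V hWV hW hV
  obtain ⟨d, hd⟩ := hbd
  obtain ⟨N, hN⟩ := PerfC.RpushBound.exists_isLE_Rpush (W.ι ≫ g)
  refine ⟨N + d, fun K n hK => ?_⟩
  refine isLE_of_Rpush (f ⁻¹ᵁ V) (qWV f g f' g' sq W V hWV) _ (qWV_ι f g f' g' sq W V hWV) _
    (aW.obj K).property _ ?_
  have h1 := hd ((Rq (W.ι ≫ g) hh).obj K) (n + N) (hN K.obj n K.property hK)
  rw [← add_assoc]
  exact isLE_of_iso' ((ObjectProperty.ι _).mapIso (i.app K)).symm _ h1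

end Right

end K478.TorAdj
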