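import Groth.Agent.Dual.H366.WedgeIso
import Groth.Agent.Dual.H366.ClassMain
import Groth.Agent.Krr.H495.Rank
import Mathlib.LinearAlgebra.Dimension.OrzechProperty

/-!
# Determinants of right exact sequences of locally free modules

* `nonempty_tensor_iso`: `C → F → W → 0` exact, `C`, `F`, `W` locally free of ranks `m`, `n = r + m`, `r`:
  `Λ^r W ⊗ Λ^m C ≅ Λ^n F`;
* `nonempty_of_shortExact`: the case of short exact sequences;
* `nonempty_conormal`: `Λ^r Ω_X ⊗ Λ^m C_{X/W} ≅ s^* Λ^n Ω_W` if `Ω_X` is locally free of rank `r`;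
* `nonempty_untensor`: cancelling an invertible factor.
-/

set_option autoImplicit false
universe u
open CategoryTheory CategoryTheory.Limits AlgebraicGeometry Opposite TopologicalSpace
open scoped TensorProduct

namespace K478.DetSeq

open Groth.Agent Sga67.Sec Sga67.ExtSheaf Sga67.LocBasis Dual.H366 Dual.H366.WedgeIso

variable {X : Scheme.{u}}

theorem isUnit_det_of_span {B C F W : Type*} [CommRing B] [AddCommGroup C] [Module B C]
    [AddCommGroup F] [Module B F] [AddCommGroup W] [Module B W] {m n r : ℕ}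
    (c : Module.Basis (Fin m) B C) (e : Module.Basis (Fin n) B F) (δ : C →ₗ[B] F)
    (p : F →ₗ[B] W) (hex : ∀ y : F, p y = 0 → ∃ z : C, δ z = y)
    (h : r + m = n) (x : Fin r → F) (hx : ⊤ ≤ Submodule.span B (Set.range fun j => p (x j))) :
    IsUnit (e.det (Fin.append x (δ ∘ c) ∘ Fin.cast h.symm)) := by
  subst h
  rw [Fin.cast_refl, Function.comp_id]
  rcases subsingleton_or_nontrivial B with hB | hB
  · exact isUnit_of_subsingleton _
  have hF : Module.Free B F := Module.Free.of_basis e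
  have hFf : Module.Finite B F := Module.Finite.of_basis e
  have hspan : ⊤ ≤ Submodule.span B (Set.range (Fin.append x (δ ∘ c))) := by
    have hxm : ∀ j, x j ∈ Submodule.span B (Set.range (Fin.append x (δ ∘ c))) := fun j =>
      Submodule.subset_span ⟨Fin.castAdd m j, Fin.append_left _ _ _⟩
    have hcm : ∀ z : C, δ z ∈ Submodule.span B (Set.range (Fin.append x (δ ∘ c))) := fun z => by
      rw [← c.sum_repr z, map_sum]
      refine Submodule.sum_mem _ fun i _ => ?_
      rw [map_smul]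
      exact Submodule.smul_mem _ _ (Submodule.subset_span ⟨Fin.natAdd r i, Fin.append_right _ _ _⟩)
    intro y _
    have h1 : p y ∈ Submodule.span B (Set.range fun j => p (x j)) := hx trivial
    rw [Submodule.mem_span_range_iff_exists_fun] at h1
    obtain ⟨a, ha⟩ := h1
    obtain ⟨z, hz⟩ := hex (y - ∑ j, a j • x j) (by
      rw [map_sub, map_sum, ← ha, sub_eq_zero]
      exact Finset.sum_congr rfl fun j _ => (map_smul p _ _).symm)
    have h2 : y = ∑ j, a j • x j + δ z := by rw [hz]; abel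
    rw [h2]
    exact Submodule.add_mem _ (Submodule.sum_mem _ fun j _ => Submodule.smul_mem _ _ (hxm j)) (hcm z)
  have hcard : Fintype.card (Fin (r + m)) = Module.finrank B F := (Module.finrank_eq_card_basis e).symm
  have hli := linearIndependent_of_top_le_span_of_card_eq_finrank hspan hcard
  exact (Module.Basis.is_basis_iff_det e).1 ⟨hli, top_le_iff.1 hspan⟩

variable {ι : Type*} {B : ι → X.affineOpens}
variable {C F W LW LC D : X.Modules} {δ : C ⟶ F} {p : F ⟶ W} {r m n : ℕ}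

theorem nonempty_tensor_iso (hB : Opens.IsBasis (Set.range fun i => (B i).1)) (H : Dat B m n δ p)
    (h : r + m = n) (hW : FlatMod.IsFinLocFreeOfRank r W) (hLW : ExtPow.IsExtPow r W LW)
    (hLC : ExtPow.IsExtPow m C LC) (hD : ExtPow.IsExtPow n F D) :
    Nonempty (CohB1.tensorMod LW LC ≅ D) := by
  obtain ⟨φW, hφW⟩ := exists_phi hLW
  obtain ⟨φC, hφC⟩ := exists_phi hLC
  obtain ⟨ψ, hψ⟩ := exists_phi hD
  obtain ⟨g, hg⟩ := WedgeSheaf.exists_wdg hB H.isWedgeDatum h φW hφW φC hφC ψ hψ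
  have : IsIso g := by
    refine isIso_of_bijective g fun y U hy => ?_
    obtain ⟨U₁, hyU₁, h1⟩ := hW y
    obtain ⟨w, hw⟩ := nonempty_restrict_iso_iff.mp h1
    obtain ⟨_, ⟨i, rfl⟩, hyi, hi⟩ := Opens.isBasis_iff_nbhd.mp hB (show y ∈ U ⊓ U₁ from ⟨hy, hyU₁⟩)
    choose x hx using fun j => H.surj i (res W (hi.trans inf_le_right) (w j))
    have hu : IsUnit (cdet H h i x) := by
      have h2 := isUnit_det_of_span ((H.hc i).basis le_rfl) ((H.he i).basis le_rfl)
        (appS δ (B i).1) (appS p (B i).1) (H.ex i) h x (by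
          have h3 : (fun j => appS p (B i).1 (x j)) = hw.basis (hi.trans inf_le_right) := by
            funext j
            rw [hx, IsLocBasis.basis_apply]
          rw [h3, Module.Basis.span_eq])
      have h4 : (appS δ (B i).1) ∘ ((H.hc i).basis le_rfl) = (appS δ (B i).1) ∘ H.c i := by
        funext j
        rw [Function.comp_apply, Function.comp_apply, IsLocBasis.basis_apply, res_self]
      rw [h4] at h2
      exact h2
    obtain ⟨V, hV, hyV, hb⟩ := bijective_wdg hB H h φW hφW φC hφC ψ hψ g hg i y hyi x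
      (hu.map (evK hyi)).ne_zero
    exact ⟨V, hV.trans (hi.trans inf_le_left), hyV, hb V le_rfl⟩
  exact ⟨asIso g⟩

section ShortExact

/-- The charts of a short exact sequence of locally free modules. -/
def SCh (S : ShortComplex X.Modules) (m r : ℕ) : Type u :=
  {U : X.affineOpens // (∃ b : Fin m → Sec S.X₁ U.1, IsLocBasis b) ∧
    ∃ c' : Fin r → Sec S.X₂ U.1, IsLocBasis (fun j => appS S.g U.1 (c' j))}

theorem isBasis_SCh {S : ShortComplex X.Modules} (hS : S.ShortExact) {m r : ℕ}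
    (h₁ : FlatMod.IsFinLocFreeOfRank m S.X₁) (h₃ : FlatMod.IsFinLocFreeOfRank r S.X₃) :
    Opens.IsBasis (Set.range fun i : SCh S m r => i.1.1) := by
  have := hS.epi_g
  rw [Opens.isBasis_iff_nbhd]
  intro O x hx
  obtain ⟨U, hxU, h1⟩ := h₁ x
  obtain ⟨b, hb⟩ := nonempty_restrict_iso_iff.mp h1
  obtain ⟨V, hxV, h3⟩ := h₃ x
  obtain ⟨c, hc⟩ := nonempty_restrict_iso_iff.mp h3
  obtain ⟨W, hWV, hxW, c', hc'⟩ := exists_lifts S.g
    (fun j => res _ (inf_le_right : O ⊓ U ⊓ V ≤ V) (c j)) (show x ∈ O ⊓ U ⊓ V from ⟨⟨hx, hxU⟩, hxV⟩)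
  obtain ⟨_, ⟨i, rfl⟩, hxi, hi⟩ := Opens.isBasis_iff_nbhd.mp (affineBasis X) hxW
  refine ⟨i.1, ⟨⟨i, ⟨_, hb.restrict (hi.trans (hWV.trans (inf_le_left.trans inf_le_right)))⟩,
    fun j => res _ hi (c' j), ?_⟩, rfl⟩, hxi, hi.trans (hWV.trans (inf_le_left.trans inf_le_left))⟩
  have h4 : (fun j => appS S.g i.1 (res S.X₂ hi (c' j))) =
      fun j => res S.X₃ (hi.trans (hWV.trans inf_le_right)) (c j) := by
    funext j
    rw [appS_res, hc', res_res, res_res]
  rw [h4]
  exact hc.restrict _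

/-- The data of the wedge morphism of a short exact sequence. -/
noncomputable def sdat {S : ShortComplex X.Modules} (hS : S.ShortExact) (m r : ℕ) :
    Dat (ι := SCh S m r) (fun i => i.1) m (m + r) S.f S.g where
  surj i z := by
    obtain ⟨c', hc'⟩ := i.2.2
    obtain ⟨a, ha⟩ := (hc' i.1.1 le_rfl).2 z
    refine ⟨∑ j, a j • c' j, ?_⟩
    rw [map_sum, ← ha, comb_apply]
    refine Finset.sum_congr rfl fun j _ => ?_
    rw [map_smul, res_self]
  comp i y := by
    rw [← appS_comp, S.zero, appS_zero]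
  ex i x hx := by
    have := hS.mono_f
    exact exists_of_appS_eq_zero hS.exact x hx
  c i := i.2.1.choose
  hc i := i.2.1.choose_spec
  e i j := Sum.elim (fun k => appS S.f i.1.1 (i.2.1.choose k)) i.2.2.choose (finSumFinEquiv.symm j)
  he i := (isLocBasis_extension hS i.2.1.choose_spec i.2.2.choose_spec i.2.2.choose
    (fun _ => rfl)).reindex finSumFinEquiv.symm

/-- `Λ^r X₃ ⊗ Λ^m X₁ ≅ Λ^{m + r} X₂`. -/
theorem nonempty_of_shortExact {S : ShortComplex X.Modules} (hS : S.ShortExact) {m r : ℕ}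
    (h₁ : FlatMod.IsFinLocFreeOfRank m S.X₁) (h₃ : FlatMod.IsFinLocFreeOfRank r S.X₃)
    {L₁ L₂ L₃ : X.Modules} (hL₁ : ExtPow.IsExtPow m S.X₁ L₁) (hL₂ : ExtPow.IsExtPow (m + r) S.X₂ L₂)
    (hL₃ : ExtPow.IsExtPow r S.X₃ L₃) : Nonempty (CohB1.tensorMod L₃ L₁ ≅ L₂) :=
  nonempty_tensor_iso (isBasis_SCh hS h₁ h₃) (sdat hS m r) (Nat.add_comm r m) h₃ hL₃ hL₁ hL₂

end ShortExact

/-- The conormal sequence. -/
theorem nonempty_conormal {X W Y : Scheme.{u}} (s : X ⟶ W) [IsClosedImmersion s] (w : W ⟶ Y)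
    [QuasiCompact (pullback.diagonal w)] [QuasiCompact (pullback.diagonal (s ≫ w))]
    {r m n : ℕ} (h : r + m = n) (hC : FlatMod.IsFinLocFreeOfRank m (Omega.conormal s))
    (hΩ : FlatMod.IsFinLocFreeOfRank n (Omega.sheaf w))
    (hΩX : FlatMod.IsFinLocFreeOfRank r (Omega.sheaf (s ≫ w)))
    {L LC : X.Modules} (hL : ExtPow.IsExtPow r (Omega.sheaf (s ≫ w)) L)
    (hLC : ExtPow.IsExtPow m (Omega.conormal s) LC) {D : W.Modules}
    (hD : ExtPow.IsExtPow n (Omega.sheaf w) D) :
    Nonempty (CohB1.tensorMod L LC ≅ (Scheme.Modules.pullback s).obj D) := by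
  have hΩ' : FlatMod.IsFinLocFree (Omega.sheaf w) := fun x => by
    obtain ⟨U, hx, hU⟩ := hΩ x
    exact ⟨U, n, hx, hU⟩
  have hD' : ExtPow.IsExtPow n ((Scheme.Modules.pullback s).obj (Omega.sheaf w))
      ((Scheme.Modules.pullback s).obj D) :=
    Krr.H487.ExtPull.isExtPow_pullback s hΩ' hD
      (ExtQCoh.exists_isExtPow n (VarietyB.PullSec.isQCoh_pullback s _ (ConSec.isQCoh_omega w)))
  exact nonempty_tensor_iso (ClassMain.isBasis_goodCh s w hC hΩ) (ClassMain.dat s w m n) h hΩX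
    hL hLC hD'

/-- Cancelling an invertible factor. -/
theorem nonempty_untensor {L K N : X.Modules} (hN : FlatMod.IsFinLocFreeOfRank 1 N)
    (e : Nonempty (CohB1.tensorMod L N ≅ CohB1.tensorMod K N)) : Nonempty (L ≅ K) := by
  obtain ⟨e⟩ := e
  have hN' : Untensor.LocGen N := fun x => by
    obtain ⟨U₁, hyU₁, h1⟩ := hN x
    obtain ⟨w, hw⟩ := nonempty_restrict_iso_iff.mp h1
    refine ⟨U₁, w 0, hyU₁, ?_⟩
    have : w = fun _ => w 0 := funext fun i => by rw [Subsingleton.elim i 0]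
    rw [this] at hw
    exact hw
  obtain ⟨g, hg⟩ := Untensor.exists_untensor hN' e.hom
  have : IsIso g := by
    refine isIso_of_bijective g fun y U hy => ?_
    obtain ⟨V, ℓ, hVU, hyV, hℓ⟩ := hN'.exists hy
    refine ⟨V, hVU, hyV, Untensor.bijective_of_bijective e.hom g hg hℓ le_rfl ⟨?_, fun t => ?_⟩⟩
    · intro a b hab
      have := congrArg (appS e.inv V) hab
      rwa [appS_hom_inv, appS_hom_inv] at this
    · exact ⟨appS e.inv V t, appS_inv_hom e V t⟩
  exact ⟨asIso g⟩

end K478.DetSeq
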