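import Groth.Prelude.Def_CxOX
import Groth.Agent.PerfB.GammaZ
import Groth.Agent.Dcoh.DerSch
import Groth.Agent.LoccohB.VanOn
import Groth.Agent.PerfB.OpenAdj

/-!
# Unbounded derived sections with support: the triangle `RΓ_Z K ⟶ K ⟶ Rj_* j^* K`

`j : U ⟶ X` an open immersion, `Z = X ∖ j(U)`.

* `hasRgammaZ j : CxOX.HasRgammaZ j`;
* `exists_triangle j K`: for ANY adjunction `adj : restrictD j ⊣ Rpush j` there is `w` such that
  `RΓ_Z K ⟶ K ⟶ Rj_* j^* K ⟶` (maps `RgammaZToId`, `adj.unit`, `w`) is distinguished;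
* `isZero_restrictD_RgammaZ`: `RΓ_Z K` vanishes on `U`;
* `bijective_comp_RgammaZToId`: `Hom(M, RΓ_Z K) → Hom(M, K)` is bijective if `M` vanishes on `U`;
* `isSuppD_iff`: `CxOX.IsSuppD j K ↔ IsZero ((DCoh.restrictD j).obj K)`.
-/

set_option autoImplicit false

universe u

open CategoryTheory CategoryTheory.Limits AlgebraicGeometry Pretriangulated

attribute [local instance] HasDerivedCategory.standard

namespace K478.GammaZ

open Groth.Agent Groth.Agent.Dcoh.DerHo Groth.Agent.Dcoh.DerSch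

section Abs

universe v' u'

variable {C : Type u'} [Category.{v'} C] [HasZeroObject C] [Preadditive C] [HasShift C ℤ]
  [∀ n : ℤ, (shiftFunctor C n).Additive] [Pretriangulated C]

lemma dist_of_iso {A B E A' B' E' : C} {f : A ⟶ B} {g : B ⟶ E} {h : E ⟶ A⟦(1 : ℤ)⟧}
    (hT : Triangle.mk f g h ∈ distTriang C) (a : A ≅ A') (b : B ≅ B') (c : E ≅ E')
    {f' : A' ⟶ B'} (hf : a.hom ≫ f' = f ≫ b.hom) :
    Triangle.mk f' (b.inv ≫ g ≫ c.hom) (c.inv ≫ h ≫ a.hom⟦(1 : ℤ)⟧') ∈ distTriang C := by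
  refine isomorphic_distinguished _ hT _ (Triangle.isoMk _ _ a.symm b.symm c.symm ?_ ?_ ?_)
  · change f' ≫ b.inv = a.inv ≫ f
    rw [Iso.eq_inv_comp, ← Category.assoc, hf, Category.assoc, Iso.hom_inv_id, Category.comp_id]
  · change (b.inv ≫ g ≫ c.hom) ≫ c.inv = b.inv ≫ g
    simp
  · change (c.inv ≫ h ≫ a.hom⟦(1 : ℤ)⟧') ≫ a.inv⟦(1 : ℤ)⟧' = c.inv ≫ h
    rw [Category.assoc, Category.assoc, ← Functor.map_comp, Iso.hom_inv_id,
      CategoryTheory.Functor.map_id, Category.comp_id]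

/-- `Hom(M, A) → Hom(M, B)` is bijective if there are no maps from `M`, `M[1]` to the third object. -/
lemma bijective_comp {A B E : C} {f : A ⟶ B} {g : B ⟶ E} {h : E ⟶ A⟦(1 : ℤ)⟧}
    (hT : Triangle.mk f g h ∈ distTriang C) (M : C) (h0 : ∀ φ : M ⟶ E, φ = 0)
    (h1 : ∀ φ : M⟦(1 : ℤ)⟧ ⟶ E, φ = 0) : Function.Bijective (fun φ : M ⟶ A => φ ≫ f) := by
  constructor
  · intro φ ψ hφ
    have h2 : (φ - ψ) ≫ f = 0 := by
      rw [Preadditive.sub_comp, sub_eq_zero]
      exact hφ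
    have h3 : (φ - ψ)⟦(1 : ℤ)⟧' ≫ f⟦(1 : ℤ)⟧' = 0 := by
      rw [← Functor.map_comp, h2, Functor.map_zero]
    obtain ⟨χ, hχ⟩ := Triangle.coyoneda_exact₁ _ hT ((φ - ψ)⟦(1 : ℤ)⟧') h3
    have h4 : (φ - ψ)⟦(1 : ℤ)⟧' = 0 := hχ.trans (by
      rw [h1 χ]
      exact zero_comp)
    rw [← sub_eq_zero]
    exact (shiftFunctor C (1 : ℤ)).map_injective (h4.trans (Functor.map_zero _ _ _).symm)
  · intro ψ
    obtain ⟨χ, hχ⟩ := Triangle.coyoneda_exact₂ _ hT ψ (h0 _)
    exact ⟨χ, hχ.symm⟩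

/-- Identification of the second map of a triangle with a unit. -/
lemma exists_unit_triangle {D : Type*} [Category* D] [HasZeroObject D] [Preadditive D] [HasShift D ℤ]
    [∀ n : ℤ, (shiftFunctor D n).Additive] [Pretriangulated D] {L : C ⥤ D} {R : D ⥤ C}
    (adj : L ⊣ R) [L.CommShift ℤ] [L.IsTriangulated] [IsIso adj.counit] {A K : C} {N : D}
    {f : A ⟶ K} {v : K ⟶ R.obj N} {w : R.obj N ⟶ A⟦(1 : ℤ)⟧}
    (hT : Triangle.mk f v w ∈ distTriang C) (hA : IsZero (L.obj A)) :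
    ∃ w' : R.obj (L.obj K) ⟶ A⟦(1 : ℤ)⟧, Triangle.mk f (adj.unit.app K) w' ∈ distTriang C := by
  have h1 : IsIso (L.map v) := (Triangle.isZero₁_iff_isIso₂ _ (L.map_distinguished _ hT)).1 hA
  let v' : L.obj K ⟶ N := L.map v ≫ adj.counit.app N
  have h2 : adj.unit.app K ≫ R.map v' = v := by
    simp [v']
  have h3 := dist_of_iso hT (Iso.refl _) (Iso.refl _) (asIso (R.map v')).symm (f' := f) (by simp)
  have h4 : (Iso.refl K).inv ≫ v ≫ (asIso (R.map v')).symm.hom = adj.unit.app K := by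
    change 𝟙 _ ≫ v ≫ inv (R.map v') = _
    rw [Category.id_comp, IsIso.comp_inv_eq, h2]
  rw [h4] at h3
  exact ⟨_, h3⟩

end Abs

variable {U X : Scheme.{u}} (j : U ⟶ X) [IsOpenImmersion j]

/-- `RΓ_Z` exists. -/
theorem hasRgammaZ : CxOX.HasRgammaZ j := hasRightDerivedFunctor (hasKInj X) _

section

variable [CxOX.HasRgammaZ j]

/-- The unit of `RΓ_Z`. -/
noncomputable def unit : CxOX.gammaZKh j ⟶ DerivedCategory.Qh ⋙ CxOX.RgammaZ j :=
  (CxOX.gammaZKh j).totalRightDerivedUnit DerivedCategory.Qh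
    (HomotopyCategory.quasiIso X.Modules (ComplexShape.up ℤ))

instance : (CxOX.RgammaZ j).IsRightDerivedFunctor (unit j)
    (HomotopyCategory.quasiIso X.Modules (ComplexShape.up ℤ)) := by
  dsimp [unit]
  infer_instance

lemma unit_fac_app (I : HomotopyCategory X.Modules (ComplexShape.up ℤ)) :
    (unit j).app I ≫ (CxOX.RgammaZToId j).app (DerivedCategory.Qh.obj I) =
      (CxOX.gammaZKhι j).app I := by
  have h := Functor.rightDerived_fac_app (CxOX.RgammaZ j) (unit j)
    (HomotopyCategory.quasiIso X.Modules (ComplexShape.up ℤ)) (𝟭 (DCoh.D X))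
    (CxOX.gammaZKhι j ≫ (Functor.rightUnitor _).inv) I
  refine h.trans ?_
  rw [NatTrans.comp_app]
  exact Category.comp_id _

omit [CxOX.HasRgammaZ j] in
lemma gammaZKhι_app (I : CochainComplex X.Modules ℤ) :
    (CxOX.gammaZKhι j).app ((HomotopyCategory.quotient _ _).obj I) =
      DerivedCategory.Qh.map ((HomotopyCategory.quotient _ _).map (PerfB.GammaZ.α j I)) := by
  have h1 : ((NatTrans.mapHomologicalComplex (CxOX.gammaZι j) (ComplexShape.up ℤ)).app I) ≫
      ((Functor.mapHomologicalComplexIdIso X.Modules (ComplexShape.up ℤ)).hom.app I) =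
      PerfB.GammaZ.α j I := by
    ext n : 1
    exact Category.comp_id _
  have h2 : (CxOX.gammaZKhι j).app ((HomotopyCategory.quotient _ _).obj I) =
      𝟙 _ ≫ DerivedCategory.Qh.map
        (((DCoh.gammaZ j).mapHomotopyCategoryFactors (ComplexShape.up ℤ)).hom.app I) ≫ 𝟙 _ ≫
      (HomotopyCategory.quotient _ _ ⋙ DerivedCategory.Qh).map
        ((NatTrans.mapHomologicalComplex (CxOX.gammaZι j) (ComplexShape.up ℤ)).app I) ≫
      (HomotopyCategory.quotient _ _ ⋙ DerivedCategory.Qh).map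
        ((Functor.mapHomologicalComplexIdIso X.Modules (ComplexShape.up ℤ)).hom.app I) ≫
      𝟙 _ := rfl
  have h3 : DerivedCategory.Qh.map
        (((DCoh.gammaZ j).mapHomotopyCategoryFactors (ComplexShape.up ℤ)).hom.app I) = 𝟙 _ :=
    DerivedCategory.Qh.map_id _
  rw [h2, h3, ← h1]
  simp only [Category.id_comp, Category.comp_id]
  rw [← Functor.map_comp]
  rfl

lemma isIso_unit (I : CochainComplex X.Modules ℤ) (hI : I.IsKInjective) :
    IsIso ((unit j).app ((HomotopyCategory.quotient _ _).obj I)) :=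
  isIso_unit_app' (hasKInj X) (CxOX.RgammaZ j) (unit j) I hI

/-- `Q(Γ_Z I) ≅ RΓ_Z(Q I)` for `I` K-injective. -/
noncomputable def gIso (I : CochainComplex X.Modules ℤ) (hI : I.IsKInjective) :
    DerivedCategory.Q.obj (((DCoh.gammaZ j).mapHomologicalComplex (ComplexShape.up ℤ)).obj I) ≅
      (CxOX.RgammaZ j).obj (DerivedCategory.Q.obj I) :=
  (DerivedCategory.quotientCompQhIso _).symm.app _ ≪≫
    @asIso _ _ _ _ ((unit j).app ((HomotopyCategory.quotient _ _).obj I)) (isIso_unit j I hI) ≪≫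
    (CxOX.RgammaZ j).mapIso ((DerivedCategory.quotientCompQhIso _).app I)

lemma gIso_hom_comp (I : CochainComplex X.Modules ℤ) (hI : I.IsKInjective) :
    (gIso j I hI).hom ≫ (CxOX.RgammaZToId j).app (DerivedCategory.Q.obj I) =
      DerivedCategory.Q.map (PerfB.GammaZ.α j I) := by
  have h1 := (CxOX.RgammaZToId j).naturality
    ((DerivedCategory.quotientCompQhIso X.Modules).hom.app I)
  have h2 := (DerivedCategory.quotientCompQhIso X.Modules).inv.naturality (PerfB.GammaZ.α j I)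
  dsimp only [gIso, Iso.trans_hom, asIso_hom, Functor.mapIso_hom, Iso.app_hom, Iso.symm_hom,
    Functor.comp_map, Functor.id_map, Functor.id_obj] at h1 h2 ⊢
  rw [Category.assoc, Category.assoc]
  refine (congrArg (fun t => _ ≫ _ ≫ t) h1).trans ?_
  have h3 := unit_fac_app j ((HomotopyCategory.quotient _ _).obj I)
  rw [gammaZKhι_app] at h3
  refine (congrArg (fun t => _ ≫ t) ((Category.assoc _ _ _).symm.trans
    (congrArg (fun t => t ≫ _) h3))).trans ?_
  refine (Category.assoc _ _ _).symm.trans ((congrArg (fun t => t ≫ _) h2.symm).trans ?_)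
  refine (Category.assoc _ _ _).trans ((congrArg (fun t => _ ≫ t) (Iso.inv_hom_id_app _ _)).trans ?_)
  exact Category.comp_id _

/-- The triangle of `RΓ_Z`, weak form. -/
theorem exists_triangle_aux (K : DCoh.D X) [DCoh.HasRpush j] :
    ∃ (N : DCoh.D U) (v : K ⟶ (DCoh.Rpush j).obj N)
      (w : (DCoh.Rpush j).obj N ⟶ ((CxOX.RgammaZ j).obj K)⟦(1 : ℤ)⟧),
      Triangle.mk ((CxOX.RgammaZToId j).app K) v w ∈ distTriang (DCoh.D X) := by
  have := isGrothendieckAbelian X
  obtain ⟨I, f, hI, hf, -, hinj⟩ := S0476.result (DerivedCategory.Q.objPreimage K)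
  have : IsIso (DerivedCategory.Q.map f) := (DerivedCategory.isIso_Q_map_iff_quasiIso _ _).2 hf
  let e : DerivedCategory.Q.obj I ≅ K :=
    (asIso (DerivedCategory.Q.map f)).symm ≪≫ DerivedCategory.Q.objObjPreimageIso K
  let I' : CochainComplex U.Modules ℤ :=
    ((Scheme.Modules.restrictFunctor j).mapHomologicalComplex (ComplexShape.up ℤ)).obj I
  have hI' : I'.IsKInjective := isKInjective_restrict j I hI
  have hS := PerfB.GammaZ.shortExact_S j I hinj
  have hT := DerivedCategory.triangleOfSES_distinguished hS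
  let p : DerivedCategory.Q.obj (PerfB.GammaZ.pr j I) ≅
    (DCoh.Rpush j).obj (DerivedCategory.Q.obj I') := (rpushIso j I' hI').symm
  let g := gIso j I hI ≪≫ (CxOX.RgammaZ j).mapIso e
  have hg : g.hom ≫ (CxOX.RgammaZToId j).app K =
      DerivedCategory.Q.map (PerfB.GammaZ.α j I) ≫ e.hom := by
    have h1 := (CxOX.RgammaZToId j).naturality e.hom
    have h2 := gIso_hom_comp j I hI
    rw [← h2]
    refine (Category.assoc _ _ _).trans ?_
    refine (congrArg (fun t => _ ≫ t) h1).trans ?_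
    exact (Category.assoc _ _ _).symm
  exact ⟨_, _, _, dist_of_iso hT g e p hg⟩

/-- `RΓ_Z K` vanishes on `U`. -/
theorem isZero_restrictD_RgammaZ (K : DCoh.D X) :
    IsZero ((DCoh.restrictD j).obj ((CxOX.RgammaZ j).obj K)) := by
  have := isGrothendieckAbelian X
  obtain ⟨I, f, hI, hf, -, hinj⟩ := S0476.result (DerivedCategory.Q.objPreimage K)
  have : IsIso (DerivedCategory.Q.map f) := (DerivedCategory.isIso_Q_map_iff_quasiIso _ _).2 hf
  let e : DerivedCategory.Q.obj I ≅ K :=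
    (asIso (DerivedCategory.Q.map f)).symm ≪≫ DerivedCategory.Q.objObjPreimageIso K
  let g := gIso j I hI ≪≫ (CxOX.RgammaZ j).mapIso e
  refine IsZero.of_iso ?_ ((DCoh.restrictD j).mapIso g.symm ≪≫
    (Scheme.Modules.restrictFunctor j).mapDerivedCategoryFactors.app _)
  refine DerivedCategory.Q.map_isZero ?_
  rw [IsZero.iff_id_eq_zero]
  ext n : 1
  exact (PerfB.GammaZ.isZero_restrict_gammaZ j (I.X n)).eq_of_src _ _

omit [CxOX.HasRgammaZ j] in
/-- Maps from an object vanishing on `U` to `Rj_* N`. -/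
theorem eq_zero_of_isZero {M : DCoh.D X} (hM : IsZero ((DCoh.restrictD j).obj M))
    [DCoh.HasRpush j] {N : DCoh.D U} (φ : M ⟶ (DCoh.Rpush j).obj N) : φ = 0 := by
  apply ((restrictAdj j).homEquiv _ _).symm.injective
  exact hM.eq_of_src _ _

omit [CxOX.HasRgammaZ j] in
lemma isZero_restrictD_shift {M : DCoh.D X} (hM : IsZero ((DCoh.restrictD j).obj M)) (n : ℤ) :
    IsZero ((DCoh.restrictD j).obj (M⟦n⟧)) :=
  ((shiftFunctor _ n).map_isZero hM).of_iso (((DCoh.restrictD j).commShiftIso n).app M)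

/-- `Hom(M, RΓ_Z K) → Hom(M, K)` is bijective if `M` vanishes on `U`. -/
theorem bijective_comp_RgammaZToId {M : DCoh.D X} (hM : IsZero ((DCoh.restrictD j).obj M))
    (K : DCoh.D X) :
    Function.Bijective (fun φ : M ⟶ (CxOX.RgammaZ j).obj K => φ ≫ (CxOX.RgammaZToId j).app K) := by
  have := hasRpush j
  obtain ⟨N, v, w, hT⟩ := exists_triangle_aux j K
  exact bijective_comp hT M (fun φ => eq_zero_of_isZero j hM φ)
    (fun φ => eq_zero_of_isZero j (isZero_restrictD_shift j hM 1) φ)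

/-- The triangle of `RΓ_Z`, for any adjunction `j^* ⊣ Rj_*`. -/
theorem exists_triangle (K : DCoh.D X) [DCoh.HasRpush j] (adj : DCoh.restrictD j ⊣ DCoh.Rpush j) :
    ∃ (w : (DCoh.Rpush j).obj ((DCoh.restrictD j).obj K) ⟶ ((CxOX.RgammaZ j).obj K)⟦(1 : ℤ)⟧),
      Triangle.mk ((CxOX.RgammaZToId j).app K) (adj.unit.app K) w ∈ distTriang (DCoh.D X) := by
  obtain ⟨N, v, w, hT⟩ := exists_triangle_aux j K
  have : IsIso adj.counit := inferInstance
  exact exists_unit_triangle adj hT (isZero_restrictD_RgammaZ j K)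

omit [CxOX.HasRgammaZ j] in
/-- `CxOX.IsSuppD` in terms of the restriction. -/
theorem isSuppD_iff (K : DCoh.D X) : CxOX.IsSuppD j K ↔ IsZero ((DCoh.restrictD j).obj K) := by
  refine Iff.trans ?_ (LoccohB.VanOn.isZero_restrictD_iff j K).symm
  constructor
  · intro h x i
    by_contra hc
    exact h i (fun hs => hc (@AddCommGrpCat.isZero_of_subsingleton _ hs)) ⟨x, rfl⟩
  · rintro h i _ hy ⟨x, rfl⟩
    exact hy (AddCommGrpCat.subsingleton_of_isZero (h x i))

end

end K478.GammaZ
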