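import Groth.Agent.S2085
import Groth.Agent.Divis.StalkMod
import Mathlib.RingTheory.Ideal.AssociatedPrime.Localization

/-!
# Coherent `(S_2)`-modules without sections supported at closed points

`injective_restrict`: for a coherent module `F` on a locally Noetherian scheme whose stalks satisfy
`(S_2)` and such that every closed point has a proper generization in the support of `F`, the
restriction of sections of `F` to an open subset containing all the non-closed points is injective.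
-/

set_option autoImplicit false
universe u
open CategoryTheory CategoryTheory.Limits AlgebraicGeometry TopologicalSpace Opposite

namespace K478.CurveInj

open Groth.Agent

section Alg

variable {A R N M : Type u} [CommRing A] [CommRing R] [Algebra A R] [IsNoetherianRing A]
  [AddCommGroup N] [Module A N] [Module.Finite A N] [AddCommGroup M] [Module A M] [Module R M]
  [IsScalarTower A R M]

theorem exists_annihilator (p : Ideal A) [hp : p.IsPrime] [IsLocalization.AtPrime R p]
    (l : N →ₗ[A] M) [IsLocalizedModule p.primeCompl l] (hS : LocCoh.HasSk 2 R M)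
    (hpN : p ∈ associatedPrimes A N) (q : Ideal A) [q.IsPrime] (hqp : q < p) :
    ∃ c : A, c ∉ q ∧ ∀ n : N, c • n = 0 := by
  have hRN : IsNoetherianRing R := IsLocalization.isNoetherianRing p.primeCompl R inferInstance
  have hRL : IsLocalRing R := IsLocalization.AtPrime.isLocalRing R p
  have hM : Module.Finite R M := Module.Finite.of_isLocalizedModule p.primeCompl l
  have hS1 : LocCoh.HasSk 1 R M := fun q _ => by
    refine le_trans (min_le_min_right _ ?_) (hS q)
    exact_mod_cast (one_le_two : (1 : ℕ) ≤ 2)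
  have hmin := S2085.result.2 hS1 (IsLocalRing.maximalIdeal R) (by
    refine Module.associatedPrimes.mem_associatedPrimes_of_comap_mem_associatedPrimes_of_isLocalizedModule
      p.primeCompl l _ ?_
    rwa [← Ideal.under_def, IsLocalization.AtPrime.under_maximalIdeal R p])
  obtain ⟨a, hap, haq⟩ := SetLike.exists_of_lt hqp
  have ham : algebraMap A R a ∈ (Module.annihilator R M).radical := by
    rw [Ideal.radical_eq_sInf, Ideal.mem_sInf]
    intro J hJ
    have h1 : J ≤ IsLocalRing.maximalIdeal R := IsLocalRing.le_maximalIdeal hJ.2.ne_top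
    have h2 : IsLocalRing.maximalIdeal R ≤ J := hmin.2 ⟨hJ.2, hJ.1⟩ h1
    exact h2 ((IsLocalization.AtPrime.to_map_mem_maximal_iff R p a).2 hap)
  obtain ⟨n, hn⟩ := ham
  rw [← map_pow, Module.mem_annihilator] at hn
  have key : ∀ x : N, ∃ c : A, c ∉ p ∧ (c * a ^ n) • x = 0 := fun x => by
    have h3 : l (a ^ n • x) = 0 := by
      rw [map_smul, ← hn (l x), algebraMap_smul]
    obtain ⟨c, hc⟩ := (IsLocalizedModule.eq_zero_iff p.primeCompl l).1 h3
    exact ⟨c, c.2, by rw [mul_smul]; exact hc⟩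
  obtain ⟨S, hS⟩ := Module.Finite.fg_top (R := A) (M := N)
  choose c hc hcx using key
  refine ⟨(∏ x ∈ S, c x) * a ^ n, fun h => ?_, fun x => ?_⟩
  · rcases (inferInstance : q.IsPrime).mem_or_mem h with h | h
    · have h4 : (∏ x ∈ S, c x) ∈ p := hqp.le h
      rw [hp.prod_mem_iff] at h4
      obtain ⟨x, -, hx⟩ := h4
      exact hc x hx
    · exact haq ((inferInstance : q.IsPrime).mem_of_pow_mem n h)
  · have hx : x ∈ Submodule.span A (S : Set N) := by rw [hS]; trivial
    induction hx using Submodule.span_induction with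
    | mem x hx =>
      obtain ⟨d, hd⟩ := Finset.dvd_prod_of_mem c hx
      rw [hd, mul_right_comm, mul_comm, mul_smul, mul_smul, ← mul_smul (c x), hcx, smul_zero]
    | zero => rw [smul_zero]
    | add x y _ _ hx hy => rw [smul_add, hx, hy, add_zero]
    | smul b x _ hx => rw [smul_comm, hx, smul_zero]

end Alg

section Sch

variable {X : Scheme.{u}}

theorem primeIdealOf_le {W : X.Opens} (hW : IsAffineOpen W) {x y : X} (hx : x ∈ W) (hy : y ∈ W)
    (h : y ⤳ x) : (hW.primeIdealOf ⟨y, hy⟩).asIdeal ≤ (hW.primeIdealOf ⟨x, hx⟩).asIdeal := by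
  have h1 : hW.primeIdealOf ⟨y, hy⟩ ⤳ hW.primeIdealOf ⟨x, hx⟩ := by
    refine (hW.fromSpec.isOpenEmbedding.isInducing.specializes_iff (x := hW.primeIdealOf ⟨y, hy⟩)
      (y := hW.primeIdealOf ⟨x, hx⟩)).1 ?_
    rwa [hW.fromSpec_primeIdealOf, hW.fromSpec_primeIdealOf]
  exact (PrimeSpectrum.le_iff_specializes _ _).2 h1

theorem primeIdealOf_ne {W : X.Opens} (hW : IsAffineOpen W) {x y : X} (hx : x ∈ W) (hy : y ∈ W)
    (h : y ≠ x) : (hW.primeIdealOf ⟨y, hy⟩).asIdeal ≠ (hW.primeIdealOf ⟨x, hx⟩).asIdeal := by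
  intro h1
  have h2 := congrArg hW.fromSpec (PrimeSpectrum.ext h1)
  rw [hW.fromSpec_primeIdealOf ⟨y, hy⟩, hW.fromSpec_primeIdealOf ⟨x, hx⟩] at h2
  exact h h2

/-- Sections vanishing on an open set containing the non-closed points vanish. -/
theorem eq_zero_of_germ [IsLocallyNoetherian X] (F : X.Modules) (hF : Coh.IsCoh F)
    (hS : ∀ x : X, LocCoh.HasSk 2 (X.presheaf.stalk x) (F.presheaf.stalk x))
    (hgen : ∀ x : X, IsClosed ({x} : Set X) →
      ∃ ξ : X, ξ ⤳ x ∧ ξ ≠ x ∧ Nontrivial (F.presheaf.stalk ξ))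
    {W : X.Opens} (hW : IsAffineOpen W) (s : Γ(F, W))
    (hs : ∀ (y : X) (hy : y ∈ W), ¬ IsClosed ({y} : Set X) → F.presheaf.germ W y hy s = 0) :
    s = 0 := by
  by_contra hs0
  have hN : IsNoetherianRing Γ(X, W) := IsLocallyNoetherian.component_noetherian ⟨W, hW⟩
  have hfin := Divis.StalkMod.finite_sections hF hW
  let s' : Submodule.span Γ(X, W) {s} := ⟨s, Submodule.mem_span_singleton_self s⟩
  have hs' : s' ≠ 0 := fun h => hs0 (congrArg Subtype.val h)
  obtain ⟨P, hP, -⟩ := exists_le_isAssociatedPrime_of_isNoetherianRing Γ(X, W) s' hs'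
  have hPN : P ∈ associatedPrimes Γ(X, W) Γ(F, W) :=
    associatedPrimes.subset_of_injective (f := (Submodule.span Γ(X, W) {s}).subtype)
      (Submodule.subtype_injective _) hP
  obtain ⟨hPp, t, ht⟩ := isAssociatedPrime_iff.1 hP
  obtain ⟨r, hr⟩ := Submodule.mem_span_singleton.1 t.2
  -- the point of `P`
  obtain ⟨y, hyW, hyP⟩ : ∃ (y : X) (hy : y ∈ W), (hW.primeIdealOf ⟨y, hy⟩).asIdeal = P := by
    let z : Spec Γ(X, W) := ⟨P, hPp⟩
    have hz : hW.fromSpec z ∈ W := by
      have := Set.mem_range_self (f := hW.fromSpec) z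
      rwa [hW.range_fromSpec] at this
    refine ⟨hW.fromSpec z, hz, ?_⟩
    have h1 : hW.primeIdealOf ⟨hW.fromSpec z, hz⟩ = z :=
      hW.fromSpec.isOpenEmbedding.injective (hW.fromSpec_primeIdealOf ⟨hW.fromSpec z, hz⟩)
    rw [h1]
  by_cases hcl : IsClosed ({y} : Set X)
  · -- closed point
    obtain ⟨ξ, hξ, hne, hnt⟩ := hgen y hcl
    have hξW : ξ ∈ W := hξ.mem_open W.2 hyW
    have hlt : (hW.primeIdealOf ⟨ξ, hξW⟩).asIdeal < (hW.primeIdealOf ⟨y, hyW⟩).asIdeal :=
      lt_of_le_of_ne (primeIdealOf_le hW hyW hξW hξ) (primeIdealOf_ne hW hyW hξW hne)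
    have h1 : ∃ c : Γ(X, W), c ∉ (hW.primeIdealOf ⟨ξ, hξW⟩).asIdeal ∧ ∀ n : Γ(F, W), c • n = 0 := by
      refine Divis.StalkMod.stalk_elim F hF.1 hW y hyW ?_
      intro _ _ _ _ l _ _ _
      exact exists_annihilator _ l (hS y) (by rwa [hyP]) _ hlt
    obtain ⟨c, hc, hc0⟩ := h1
    revert hc
    refine Divis.StalkMod.stalk_elim F hF.1 hW ξ hξW ?_
    intro _ _ _ _ l _ _ hl hc
    refine not_subsingleton (F.presheaf.stalk ξ) ((IsLocalizedModule.subsingleton_iff
      (hW.primeIdealOf ⟨ξ, hξW⟩).asIdeal.primeCompl l).2 fun n => ⟨c, hc, hc0 n⟩)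
  · have h1 := hs y hyW hcl
    revert h1
    refine Divis.StalkMod.stalk_elim F hF.1 hW y hyW ?_
    intro _ _ _ _ l hls _ _ h1
    rw [← hls] at h1
    obtain ⟨c, hc⟩ := (IsLocalizedModule.eq_zero_iff
      (hW.primeIdealOf ⟨y, hyW⟩).asIdeal.primeCompl l).1 h1
    refine c.2 ?_
    refine hyP.symm.le ?_
    rw [ht, Submodule.mem_colon_singleton]
    refine Subtype.ext ?_
    change (c : Γ(X, W)) • (t : Γ(F, W)) = 0
    rw [← hr, smul_comm]
    change r • (c • s) = 0
    rw [hc, smul_zero]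

theorem injective_restrict [IsLocallyNoetherian X] (F : X.Modules) (hF : Coh.IsCoh F)
    (hS : ∀ x : X, LocCoh.HasSk 2 (X.presheaf.stalk x) (F.presheaf.stalk x))
    (hgen : ∀ x : X, IsClosed ({x} : Set X) →
      ∃ ξ : X, ξ ⤳ x ∧ ξ ≠ x ∧ Nontrivial (F.presheaf.stalk ξ))
    (U : X.Opens) (hU : ∀ x : X, ¬ IsClosed ({x} : Set X) → x ∈ U) (V : X.Opens) :
    Function.Injective (F.presheaf.map (homOfLE (inf_le_left : V ⊓ U ≤ V)).op) := by
  rw [injective_iff_map_eq_zero]
  intro s hs
  refine TopCat.Presheaf.section_ext ⟨F.presheaf, F.isSheaf⟩ V s 0 fun x hx => ?_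
  obtain ⟨W, hW, hxW, hWV'⟩ := exists_isAffineOpen_mem_and_subset (x := x) (U := V) hx
  have hWV : W ≤ V := hWV'
  have h1 : F.presheaf.map (homOfLE hWV).op s = 0 := by
    refine eq_zero_of_germ F hF hS hgen hW _ fun y hy hcl => ?_
    have h2 : F.presheaf.germ (V ⊓ U) y ⟨hWV hy, hU y hcl⟩
        (F.presheaf.map (homOfLE (inf_le_left : V ⊓ U ≤ V)).op s) = 0 := by
      rw [hs, map_zero]
    exact (TopCat.Presheaf.germ_res_apply F.presheaf (homOfLE hWV) y hy s).trans
      ((TopCat.Presheaf.germ_res_apply F.presheaf (homOfLE (inf_le_left : V ⊓ U ≤ V)) y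
        ⟨hWV hy, hU y hcl⟩ s).symm.trans h2)
  have h3 := congrArg (F.presheaf.germ W x hxW) h1
  exact ((TopCat.Presheaf.germ_res_apply F.presheaf (homOfLE hWV) x hxW s).symm.trans
    (h3.trans (map_zero _))).trans (map_zero _).symm

end Sch

end K478.CurveInj
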