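import Groth.Agent.Dual.H356.ChartX

/-!
# Base change of internal Hom pairs along maps of finite tor dimension

`isHomPair_map`: `A` pseudo-coherent, `L` locally bounded below, `Lu^*` of bounded amplitude: `Lu^* R` is the
internal Hom of `Lu^* A` and `Lu^* L` if `R` is the internal Hom of `A` and `L`.
-/

set_option autoImplicit false
universe u

open CategoryTheory CategoryTheory.Limits AlgebraicGeometry MonoidalCategory Pretriangulated
attribute [local instance] HasDerivedCategory.standard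

open scoped Groth.Agent.Dcoh.MonCat Groth.Agent.Dcoh.ModD Groth.Agent.Dcoh.MonPull Groth.Agent.Dual.H356.LpMon

namespace K478.HomPairFtd

open Groth.Agent Groth.Agent.Dcoh Groth.Agent.Dcoh.LocalD Groth.Agent.Dual.H356
  Groth.Agent.Dual.H356.AbsPair Groth.Agent.Dual.H356.AbsTw
  Groth.Agent.Dual.H356.TBij Groth.Agent.Dual.H356.HomPairBC Groth.Agent.PerfC.DTens
  Groth.Agent.PerfC.ExtZeroD Functor.LaxMonoidal

variable {X W : Scheme.{u}} (u : W ⟶ X) [DCoh.HasLpull u]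

/-- `Lu^*` shifts lower bounds by at most `c`. -/
def Bound (c : ℤ) : Prop := ∀ (K : DCoh.D X) (n : ℤ), K.IsGE n → ((DCoh.Lpull u).obj K).IsGE (n + c)

/-- The bound restricts to opens of the source and the target. -/
lemma bound_chart {c : ℤ} (hu : Bound u c) {V V' : Scheme.{u}} (j : V ⟶ X) (j' : V' ⟶ W) (u' : V' ⟶ V)
    [DCoh.HasLpull j] [DCoh.HasLpull j'] [DCoh.HasLpull u'] [IsOpenImmersion j] [IsOpenImmersion j']
    (sq : j' ≫ u = u' ≫ j) : Bound u' c := by
  intro Z n hZ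
  have h1 : ((shriekD j).obj Z).IsGE n := Dcoh.MapDer.isGE_map _ n Z
  have h2 := hu _ n h1
  have h3 : ((DCoh.restrictD j').obj ((DCoh.Lpull u).obj ((shriekD j).obj Z))).IsGE (n + c) :=
    Dcoh.MapDer.isGE_map (Scheme.Modules.restrictFunctor j') (n + c) _
  have e1 : (DCoh.Lpull u').obj Z ≅ (DCoh.Lpull u').obj ((DCoh.Lpull j).obj ((shriekD j).obj Z)) :=
    (DCoh.Lpull u').mapIso (asIso ((JShriek.adj j).unit.app Z))
  have e2 := (LpMon.lpullSq u sq).app ((shriekD j).obj Z)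
  have e3 := (DerPull.lpullOpenIso j').app ((DCoh.Lpull u).obj ((shriekD j).obj Z))
  exact DerivedCategory.TStructure.t.isGE_of_iso (e1 ≪≫ e2.symm ≪≫ e3).symm (n + c)

/-- Charts exist. -/
theorem exists_chart {c : ℤ} (hu : Bound u c) {A L : DCoh.D X} (hA : ∀ m : ℤ, DCoh.IsPseudoCoherentD m A)
    {s : ℤ} (hL : L.IsGE s) (w : W) :
    ∃ (V' : W.Opens) (V : Scheme.{u}) (j : V ⟶ X) (u' : V'.toScheme ⟶ V) (_ : IsOpenImmersion j)
      (_ : DCoh.HasLpull j) (_ : DCoh.HasLpull V'.ι) (_ : DCoh.HasLpull u'), w ∈ V' ∧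
        Chart u (𝟙_ (DCoh.D W)) A L j V'.ι u' := by
  obtain ⟨R, j, hj, hxj, -⟩ := Scheme.exists_affine_mem_range_and_range_subset
    (X := X) (x := u w) (U := ⊤) trivial
  let V' : W.Opens := u ⁻¹ᵁ j.opensRange
  have hr : Set.range (V'.ι ≫ u) ⊆ Set.range j := by
    rintro _ ⟨z, rfl⟩
    exact z.2
  let u' : V'.toScheme ⟶ Spec R := IsOpenImmersion.lift j (V'.ι ≫ u) hr
  have hu' : u' ≫ j = V'.ι ≫ u := IsOpenImmersion.lift_fac _ _ _
  have l1 : DCoh.HasLpull j := DerPull.hasLpull _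
  have l2 : DCoh.HasLpull V'.ι := DerPull.hasLpull _
  have l3 : DCoh.HasLpull u' := DerPull.hasLpull _
  refine ⟨V', Spec R, j, u', hj, l1, l2, l3, hxj, ⟨hu'.symm, ⟨s, ?_⟩, ⟨c, fun Z n hZ => ?_⟩, ?_⟩⟩
  · have h2 : ((DCoh.restrictD j).obj L).IsGE s :=
      MapDer.isGE_map (Scheme.Modules.restrictFunctor j) s L
    exact DerivedCategory.TStructure.t.isGE_of_iso ((DerPull.lpullOpenIso j).symm.app L) s
  · have h4 := bound_chart u hu j V'.ι u' hu'.symm Z n hZ
    exact DerivedCategory.TStructure.t.isGE_of_iso ((λ_ ((DCoh.Lpull u').obj Z)).symm ≪≫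
      whiskerRightIso (Functor.Monoidal.εIso (DCoh.Lpull V'.ι)) _) (n + c)
  · exact ChartX.hasApprox_of_pc R fun m => isPseudoCoherentD_of_iso ((DerPull.lpullOpenIso j).symm.app A)
      (isPseudoCoherentD_restrict j (hA m))

/-- **Base change of internal Homs** along a morphism of finite tor dimension. -/
theorem isHomPair_map {c : ℤ} (hu : Bound u c) {A R L : DCoh.D X} (hA : ∀ m : ℤ, DCoh.IsPseudoCoherentD m A)
    {s : ℤ} (hL : L.IsGE s) {e : R ⊗ A ⟶ L} (he : IsHomPair A R L e) :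
    IsHomPair ((DCoh.Lpull u).obj A) ((DCoh.Lpull u).obj R) ((DCoh.Lpull u).obj L)
      (μ (DCoh.Lpull u) R A ≫ (DCoh.Lpull u).map e) := by
  have h := isHomPair_tw u (𝟙_ (DCoh.D W)) he fun w => exists_chart u hu hA hL w
  refine h.of_iso (λ_ _).symm (λ_ _) _ ?_
  rw [tw, id_whiskerLeft]
  simp only [Iso.symm_hom, Category.assoc, Iso.inv_hom_id, Category.comp_id]
  monoidal

end K478.HomPairFtd
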