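import Groth.Agent.KSix.K238.Amp
import Groth.Agent.KSix.K238.StalkAmp
import Groth.Agent.KSix.K238.RingSelf
import Groth.Agent.Htor.H240.FlatTens
import Groth.Agent.Htor.H240.KunnStep
import Groth.Agent.LoccohB.RelUniq

/-!
# Lower bounds for derived base change along maps of finite tor dimension

* `isGE_lbc`: `φ : A → B` with `B` of tor amplitude in `[a, b]` over `A`, `K ∈ D^{≥ n}(A)`: `K ⊗^L_A B ∈ D^{≥ a + n}(B)`;
* `isGE_lpull`: the same for `Lf^*`, `f` of finite tor dimension (stalkwise).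
-/

set_option autoImplicit false
universe u
open CategoryTheory CategoryTheory.Limits AlgebraicGeometry MonoidalCategory
attribute [local instance] HasDerivedCategory.standard

namespace K478.LbcGE

open DerivedCategory Groth.Agent Groth.Agent.LoccohB

section Ring

open Groth.Agent.Htor.H240 Groth.Agent.Htor.H240.KunnEl Groth.Agent.Htor.H240.KunnFlat

variable {A B : Type u} [CommRing A] [CommRing B]

lemma isZero_tensor_X (L M : DRing.Cx A) {a b : ℤ} (hL : ∀ i, i < a → IsZero (L.X i))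
    (hM : ∀ i, i < b → IsZero (M.X i)) (n : ℤ) (hn : n < a + b) :
    IsZero ((HTor.tensorCx L M).X n) := by
  have h : ∀ ij : HTor.Antidiag n, Subsingleton (TensorProduct A (L.X ij.1.1) (M.X ij.1.2)) := by
    rintro ⟨⟨i, j⟩, hij⟩
    dsimp at hij ⊢
    by_cases hi : i < a
    · have := ModuleCat.subsingleton_of_isZero (hL i hi)
      infer_instance
    · have := ModuleCat.subsingleton_of_isZero (hM j (by lia))
      infer_instance
  have h1 : Subsingleton (TSum L M n) := ⟨fun x y => DFinsupp.ext fun ij => Subsingleton.elim _ _⟩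
  have h2 : Subsingleton ((HTor.tensorCx L M).X n) := (T_surjective L M n).subsingleton
  exact ModuleCat.isZero_of_subsingleton _

/-- `E ⊗ P ∈ D^{≥ a + n}` for `E` a complex of flat modules placed in `[a, b]`, `P ∈ D^{≥ n}`. -/
lemma isGE_tensorCx (E P : DRing.Cx A) {a b n : ℤ} (hE : ∀ i, (i < a ∨ b < i) → IsZero (E.X i))
    (hE' : DRing.TermwiseFlat E) (hP : (Q.obj P).IsGE n) :
    (Q.obj (HTor.tensorCx E P)).IsGE (a + n) := by
  rw [isGE_Q_obj_iff] at hP
  have hq : QuasiIso (P.πTruncGE n) := (CochainComplex.quasiIso_πTruncGE_iff P n).2 hP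
  have h1 := FlatTens.quasiIso_tensorHom_left E hE' (b := b) (fun i hi => hE i (Or.inr hi)) (P.πTruncGE n)
  have h2 : (HTor.tensorCx E (P.truncGE n)).IsStrictlyGE (a + n) := by
    rw [CochainComplex.isStrictlyGE_iff]
    exact fun i hi => isZero_tensor_X E (P.truncGE n) (fun i hi => hE i (Or.inl hi))
      (fun i hi => (P.truncGE n).isZero_of_isStrictlyGE n i hi) i hi
  have h3 : (Q.obj (HTor.tensorCx E (P.truncGE n))).IsGE (a + n) := by
    rw [isGE_Q_obj_iff]
    infer_instance
  have h4 : IsIso (Q.map (HomologicalComplex.tensorHom (𝟙 E) (P.πTruncGE n))) := by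
    rw [isIso_Q_map_iff_quasiIso]
    exact h1
  exact DerivedCategory.TStructure.t.isGE_of_iso
    (asIso (Q.map (HomologicalComplex.tensorHom (𝟙 E) (P.πTruncGE n)))).symm (a + n)

/-- Restriction of scalars reflects lower bounds. -/
lemma isGE_of_restrict (φ : A →+* B) {K : Dual.D B} {n : ℤ} (h : ((DRing.restrictD φ).obj K).IsGE n) :
    K.IsGE n := by
  rw [isGE_iff] at h ⊢
  intro i hi
  exact (HomBC.isZero_homology_iff K i).2
    ((RelOmega.subsingleton_HD_restrict φ K i).1 ((HomBC.isZero_homology_iff _ i).1 (h i hi)))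

/-- **Lower bound for the derived base change.** -/
theorem isGE_lbc (φ : A →+* B) [DRing.HasLBaseChange φ] {a b : ℤ}
    (hB : DRing.HasTorAmplitudeIn A a b ((DRing.restrictD φ).obj (Dual.inD B B)))
    (K : Dual.D A) (n : ℤ) (hK : K.IsGE n) : ((DRing.LBaseChange φ).obj K).IsGE (a + n) := by
  obtain ⟨E, h1, h2, ⟨e⟩⟩ := hB
  obtain ⟨P, hP, ⟨eP⟩⟩ := LTen.exists_kproj K
  have := LTen.hasLTensorCx P
  obtain ⟨e1⟩ := K238.RingSelf.nonempty_lten_self φ P
  have h3 : (Q.obj P).IsGE n := DerivedCategory.TStructure.t.isGE_of_iso eP.symm n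
  have h4 := isGE_tensorCx E P h1 h2 h3
  have e2 : (DRing.LTensorCx A P).obj (Q.obj E) ≅ Q.obj (HTor.tensorCx E P) := LTen.ltenIso' P E
  have h5 : ((DRing.restrictD φ).obj ((DRing.LBaseChange φ).obj (Q.obj P))).IsGE (a + n) :=
    DerivedCategory.TStructure.t.isGE_of_iso (e2.symm ≪≫ (DRing.LTensorCx A P).mapIso e ≪≫ e1) _
  have h6 := isGE_of_restrict φ h5
  exact DerivedCategory.TStructure.t.isGE_of_iso ((DRing.LBaseChange φ).mapIso eP) _

end Ring

section Scheme

variable {X Y : Scheme.{u}} (f : X ⟶ Y) [DCoh.HasLpull f]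

/-- **Lower bound for the derived pullback.** -/
theorem isGE_lpull {a b : ℤ} (hf : DerSch.HasTorAmplitude f a b (DerSch.unitCx X)) (K : DCoh.D Y) (n : ℤ)
    (hK : K.IsGE n) : ((DCoh.Lpull f).obj K).IsGE (a + n) := by
  rw [K238.StalkAmp.isGE_iff_stalkD]
  intro x
  have := LBC.hasLBaseChange (f.stalkMap x).hom
  obtain ⟨e⟩ := K238.StalkPull.nonempty_stalkD_lpull f x K
  have h1 := isGE_lbc (f.stalkMap x).hom (K238.Amp.torAmp_self_of (hf x)) _ n
    ((K238.StalkAmp.isGE_iff_stalkD K n).1 hK (f.base x))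
  exact DerivedCategory.TStructure.t.isGE_of_iso e.symm _

/-- A morphism of finite tor dimension has a uniform bound. -/
theorem exists_isGE_lpull (hf : DerSch.HasFiniteTorDim f) :
    ∃ c : ℤ, ∀ (K : DCoh.D Y) (n : ℤ), K.IsGE n → ((DCoh.Lpull f).obj K).IsGE (n + c) := by
  obtain ⟨a, b, h⟩ := hf
  refine ⟨a, fun K n hK => ?_⟩
  rw [add_comm]
  exact isGE_lpull f h K n hK

end Scheme

end K478.LbcGE
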