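import Groth.Agent.Vancyc.H878.OmegaRank
import Groth.Agent.Dual.H366.ConSec
import Groth.Agent.Etbc.H187.ArtSchK
import Mathlib.RingTheory.PowerSeries.Derivative

/-!
# Absolute differentials of a power series ring over a finite field

`nonempty_iso`: for `k` finite, `Ω_{Spec k[[t]] / ℤ} ≅ O`.
-/

set_option autoImplicit false
universe u
open CategoryTheory CategoryTheory.Limits AlgebraicGeometry TopologicalSpace Opposite

namespace K478.OmegaPS

open Groth.Agent

section Alg

variable {k : Type u} [Field k] (p : ℕ) [hp : Fact p.Prime] [CharP k p]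

/-- The `p`-basis decomposition of a power series. -/
theorem exists_decomp [PerfectRing k p] (f : PowerSeries k) : ∃ g : ℕ → PowerSeries k,
    f = ∑ i ∈ Finset.range p, PowerSeries.X ^ i * g i ^ p := by
  choose r hr using fun c : k => (PerfectRing.bijective_frobenius (R := k) (p := p)).2 c
  refine ⟨fun i => PowerSeries.mk fun m => r (PowerSeries.coeff (i + p * m) f), ?_⟩
  have hpos := hp.out.pos
  ext n
  rw [map_sum, Finset.sum_eq_single (n % p)]
  · rw [PowerSeries.coeff_X_pow_mul', if_pos (Nat.mod_le _ _)]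
    have h1 : n - n % p = p * (n / p) := by
      have := Nat.mod_add_div n p
      omega
    have h2 : ∀ c : k, r c ^ p = c := hr
    rw [h1, Etbc.H187.ArtSchK.coeff_pow_mul, PowerSeries.coeff_mk, h2, Nat.mod_add_div]
  · intro i hi hin
    rw [Finset.mem_range] at hi
    rw [PowerSeries.coeff_X_pow_mul']
    split_ifs with h
    · apply Etbc.H187.ArtSchK.coeff_pow_of_not_dvd
      intro hd
      apply hin
      obtain ⟨c, hc⟩ := hd
      have : n = i + p * c := by omega
      rw [this, Nat.add_mul_mod_self_left, Nat.mod_eq_of_lt hi]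
    · rfl
  · intro h
    exact absurd (Finset.mem_range.2 (Nat.mod_lt _ hpos)) h

variable {A M : Type u} [CommRing A] [AddCommGroup M] [Module A M] (D₀ : A →+ M)
  (hmul : ∀ a b, D₀ (a * b) = a • D₀ b + b • D₀ a)

include hmul in
theorem D_pow (a : A) (n : ℕ) : D₀ (a ^ n) = ((n : A) * a ^ (n - 1)) • D₀ a := by
  have h1 : D₀ 1 = 0 := by
    have := hmul 1 1
    rw [mul_one, one_smul] at this
    exact left_eq_add.1 this
  induction n with
  | zero => rw [pow_zero, h1, Nat.cast_zero, zero_mul, zero_smul]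
  | succ n ih =>
    rw [pow_succ, hmul, ih, ← mul_smul, ← add_smul, Nat.cast_succ, Nat.add_sub_cancel]
    congr 1
    rcases n with _ | n
    · simp
    · rw [Nat.add_sub_cancel, pow_succ]
      ring

include hmul in
/-- The module of differentials is generated by `d t`. -/
theorem span_dt [PerfectRing k p] (e : A ≃+* PowerSeries k)
    (hspan : Submodule.span A (Set.range D₀) = ⊤) :
    Submodule.span A {D₀ (e.symm PowerSeries.X)} = ⊤ := by
  have hpA : (p : A) = 0 := by
    apply e.injective
    rw [map_natCast, map_zero, ← map_natCast (PowerSeries.C (R := k)), CharP.cast_eq_zero k p,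
      map_zero]
  rw [eq_top_iff, ← hspan, Submodule.span_le]
  rintro _ ⟨a, rfl⟩
  obtain ⟨g, hg⟩ := exists_decomp p (e a)
  have h1 : a = ∑ i ∈ Finset.range p, (e.symm PowerSeries.X) ^ i * (e.symm (g i)) ^ p := by
    apply e.injective
    rw [hg, map_sum]
    refine Finset.sum_congr rfl fun i _ => ?_
    rw [map_mul, map_pow, map_pow, RingEquiv.apply_symm_apply, RingEquiv.apply_symm_apply]
  rw [h1, map_sum]
  refine Submodule.sum_mem _ fun i _ => ?_
  rw [hmul, D_pow D₀ hmul (e.symm (g i)) p, D_pow D₀ hmul (e.symm PowerSeries.X) i, hpA, zero_mul,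
    zero_smul, smul_zero, zero_add, ← mul_smul]
  exact Submodule.smul_mem _ _ (Submodule.mem_span_singleton_self _)

include hmul in
theorem nonempty_basis [PerfectRing k p] (e : A ≃+* PowerSeries k)
    (hspan : Submodule.span A (Set.range D₀) = ⊤)
    (hL : ∃ L : M →ₗ[A] A, L (D₀ (e.symm PowerSeries.X)) = 1) :
    Nonempty (Module.Basis (Fin 1) A M) := by
  obtain ⟨L, hL⟩ := hL
  refine ⟨Module.Basis.mk (v := fun _ => D₀ (e.symm PowerSeries.X)) ?_ ?_⟩
  · rw [Fintype.linearIndependent_iff]
    intro a ha i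
    rw [Fin.sum_univ_one] at ha
    have h1 := congrArg L ha
    rw [map_smul, hL, map_zero, smul_eq_mul, mul_one] at h1
    rw [Subsingleton.elim i 0]
    exact h1
  · rw [Set.range_const, span_dt p D₀ hmul e hspan]

end Alg

section Sch

open Sga67.Sec Sga67.LocBasis Dual.H366.Conormal Dual.H366.ConSec

theorem exists_int (a : Γ(Spec (CommRingCat.of (ULift.{u} ℤ)), ⊤)) : ∃ n : ℤ, a = (n : Γ(Spec (CommRingCat.of (ULift.{u} ℤ)), ⊤)) := by
  let e : Γ(Spec (CommRingCat.of (ULift.{u} ℤ)), ⊤) ≃+* ULift.{u} ℤ :=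
    (Scheme.ΓSpecIso (CommRingCat.of (ULift.{u} ℤ))).commRingCatIsoToRingEquiv
  refine ⟨(e a).down, ?_⟩
  apply e.injective
  rw [map_intCast]
  rfl

variable (k : Type u) [Field k] [Finite k]

/-- The structure morphism to `Spec ℤ`. -/
noncomputable abbrev wS : Spec (CommRingCat.of (PowerSeries k)) ⟶ Spec (CommRingCat.of (ULift.{u} ℤ)) :=
  specULiftZIsTerminal.from (Spec (CommRingCat.of (PowerSeries k)))

/-- `Ω_{k[[t]]/ℤ}` is free of rank one. -/
theorem nonempty_basis_sec : Nonempty (Module.Basis (Fin 1) Γ(Spec (CommRingCat.of (PowerSeries k)), ⊤)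
    Γ(Omega.sheaf (wS k), ⊤)) := by
  obtain ⟨p, hpc⟩ := CharP.exists k
  have hp0 : p ≠ 0 := CharP.char_ne_zero_of_finite k p
  have hp : Fact p.Prime := ⟨(CharP.char_is_prime_or_zero k p).resolve_right hp0⟩
  have hperf : PerfectRing k p := PerfectRing.ofFiniteOfIsReduced p k
  let c : Ch (wS k) := ⟨⊤, isAffineOpen_top _, ⊤, isAffineOpen_top _, le_top⟩
  let e : Γ(Spec (CommRingCat.of (PowerSeries k)), ⊤) ≃+* PowerSeries k :=
    (Scheme.ΓSpecIso (CommRingCat.of (PowerSeries k))).commRingCatIsoToRingEquiv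
  let D₁ : Γ(Spec (CommRingCat.of (PowerSeries k)), ⊤) →+ Γ(Spec (CommRingCat.of (PowerSeries k)), ⊤) :=
    { toFun := fun a => e.symm (PowerSeries.derivative k (e a))
      map_zero' := by rw [map_zero, map_zero, map_zero]
      map_add' := fun a b => by rw [map_add, map_add, map_add] }
  have hmul : ∀ a b, D₁ (a * b) = a • D₁ b + b • D₁ a := fun a b => by
    apply e.injective
    change e (e.symm _) = e (a * e.symm _ + b * e.symm _)
    rw [map_add, map_mul e a (e.symm _), map_mul e b, RingEquiv.apply_symm_apply,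
      RingEquiv.apply_symm_apply, RingEquiv.apply_symm_apply, map_mul e a b, Derivation.leibniz]
    rfl
  obtain ⟨L, hL⟩ := exists_liftS c (N := Γ(Spec (CommRingCat.of (PowerSeries k)), ⊤)) D₁ hmul
    (fun a => by
      obtain ⟨n, rfl⟩ := exists_int a
      rw [map_intCast]
      change e.symm (PowerSeries.derivative k (e n)) = 0
      rw [map_intCast e n, Derivation.map_intCast, map_zero])
  refine nonempty_basis p (A := Γ(Spec (CommRingCat.of (PowerSeries k)), ⊤))
    (M := Sec (Omega.sheaf (wS k)) ⊤) (dS (wS k) ⊤) (dS_mul (wS k) ⊤) e (span_dS c) ⟨L, ?_⟩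
  rw [hL]
  change e.symm (PowerSeries.derivative k (e (e.symm PowerSeries.X))) = 1
  rw [RingEquiv.apply_symm_apply, PowerSeries.derivative_X, map_one]

/-- `Ω_{Spec k[[t]] / ℤ} ≅ O`. -/
theorem nonempty_iso : Nonempty (Omega.sheaf (wS k) ≅
    Coh.structureModule (Spec (CommRingCat.of (PowerSeries k)))) := by
  obtain ⟨b⟩ := nonempty_basis_sec k
  have h1 := Vancyc.H878.OmegaRank.isLocBasis_of_isQCoh (isQCoh_omega (wS k))
    (isAffineOpen_top (Spec (CommRingCat.of (PowerSeries k)))) b
  let s₀ : Sec (Omega.sheaf (wS k)) ⊤ := b 0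
  have h2 : IsIso (homUnit (Omega.sheaf (wS k)) s₀) := by
    refine isIso_of_bijective _ fun x U hx => ⟨U, le_rfl, hx, ?_⟩
    have h3 := h1 U le_top
    have h4 : (appS (homUnit (Omega.sheaf (wS k)) s₀) U : Sec (Coh.structureModule _) U → _) =
        comb (M := Omega.sheaf (wS k)) (fun i => (show Sec (Omega.sheaf (wS k)) ⊤ from b i)) le_top ∘
          (fun a (_ : Fin 1) => toO a) := by
      funext a
      have h5 := homUnit_apply (Omega.sheaf (wS k)) s₀ U a
      rw [h5, Function.comp_apply, comb_apply, Fin.sum_univ_one]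
    rw [h4]
    refine h3.comp ⟨fun a b hab => congrFun hab 0, fun c => ⟨c 0, ?_⟩⟩
    funext i
    rw [Subsingleton.elim i 0]
    rfl
  exact ⟨(asIso (homUnit (Omega.sheaf (wS k)) s₀)).symm⟩

end Sch

end K478.OmegaPS
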