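import Groth.Agent.Dual3.K478.HomPairFtd
import Groth.Agent.Dual.H307.Main
import Groth.Agent.PerfC.RHomPc175

/-!
# Base change for right adjoints of `Rf_*`, base change of finite tor dimension

For a cartesian square of quasi-compact quasi-separated schemes such that `Rf_*` sends perfect objects to
pseudo-coherent ones, `Lg^*` has bounded amplitude and the base change maps
`beta : Lg^* Rf_* E ⟶ Rf'_* Lg'^* E` are isomorphisms on `D_QCoh(O_X)`: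

* `isHomPair_push`: for a universal pair `(L, τ)` for `(f, K)`, `K` bounded below, and `M` perfect,
  `Rf_*(L ⊗ Mᵛ)` is the internal Hom of `Rf_* M` and `K` in `D(O_Y)`;
* `isUniv_bc`: if `(L, τ)` is universal for `(f, K)`, `K` bounded below, then `(Lg'^* L, τ')` is universal for
  `(f', Lg^* K)`, where `τ' : Rf'_* Lg'^* L ≅ Lg^* Rf_* L ⟶ Lg^* K`.
-/

set_option autoImplicit false

open CategoryTheory Limits MonoidalCategory AlgebraicGeometry

universe u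

attribute [local instance] HasDerivedCategory.standard

namespace K478.PcBC

open Groth.Agent Groth.Agent.Dcoh Groth.Agent.PerfB.BCShift
  Groth.Agent.Dual.H307.MonNat Groth.Agent.Dual.H307.MonComp Groth.Agent.Dual.H307.MonSquare
  Groth.Agent.Dual.H307.MonBC Groth.Agent.Dual.H307.Main Groth.Agent.Ega1.ADualUniv Groth.Agent.Dual.H308
  Groth.Agent.Dual.H356.AbsPair K478.HomPairFtd
open scoped Groth.Agent.Dcoh.MonCat Groth.Agent.Dcoh.ModD Groth.Agent.Dcoh.MonPull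
  Groth.Agent.Dual.H307.MonComp Groth.Agent.Dual.H307.MonSquare

section Hom

variable {X : Scheme.{u}}

/-- Internal Homs exist, and are quasi-coherent in good cases. -/
lemma exists_adj (A : DCoh.D X) (hA : ∀ m : ℤ, DCoh.IsPseudoCoherentD m A) :
    ∃ R : DCoh.D X ⥤ DCoh.D X, Nonempty (tensorRight A ⊣ R) ∧
      ∀ (L : DCoh.D X) (s : ℤ), L.IsGE s → DCoh.IsQCohD L → DCoh.IsQCohD (R.obj L) := by
  have := ModTens.hasLTensorCx (DerivedCategory.Q.objPreimage A)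
  have := PerfC.RHomD.hasRSheafHom (DerivedCategory.Q.objPreimage A)
  refine ⟨_, ⟨(ModTens.adjQ (DerivedCategory.Q.objPreimage A)).ofNatIsoLeft
    ((tensoringRight (DCoh.D X)).mapIso (DerivedCategory.Q.objObjPreimageIso A))⟩, fun L s hL hL' => ?_⟩
  have h1 := PerfC.RHomPc175.isQCohD_RH
    (fun m => LocalD.isPseudoCoherentD_of_iso (DerivedCategory.Q.objObjPreimageIso A).symm (hA m)) s hL'
  exact PerfA.QCohD.isQCohD_of_iso ((PerfC.RHomD.rsIso (DerivedCategory.Q.objPreimage A)).symm.app L) h1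

end Hom

section Push

variable {X Y : Scheme.{u}} [CompactSpace X] [QuasiSeparatedSpace X] [CompactSpace Y] [QuasiSeparatedSpace Y]
  (f : X ⟶ Y) [DCoh.HasRpush f] [DCoh.HasLpull f]

/-- `Rf_*(L ⊗ Mᵛ)` is the internal Hom of `Rf_* M` and `K`. -/
theorem isHomPair_push {K : DCoh.D Y} (hK : DCoh.IsQCohD K) {s : ℤ} (hKs : K.IsGE s) {L : DCoh.D X}
    {τ : (DCoh.Rpush f).obj L ⟶ K} (h : IsUniv f K L τ) (M Md : DCoh.D X) (hM : DCoh.IsPerfect M)
    (hMd : DCoh.IsPerfect Md) [ExactPairing M Md]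
    (hpc : ∀ m : ℤ, DCoh.IsPseudoCoherentD m ((DCoh.Rpush f).obj M)) :
    IsHomPair ((DCoh.Rpush f).obj M) ((DCoh.Rpush f).obj (L ⊗ Md)) K (mapP (DCoh.Rpush f) (p₀ M Md L) ≫ τ) := by
  have hq : ∀ {Z : Scheme.{u}} (P : DCoh.D Z), DCoh.IsPerfect P → DCoh.IsQCohD P :=
    fun P hP => PerfA.QCohD.isQCohD_of_isPerfect _ hP
  obtain ⟨RH, ⟨adj⟩, hRH⟩ := exists_adj ((DCoh.Rpush f).obj M) hpc
  have he := isHomPair_of_adj adj K
  obtain ⟨c, hc⟩ := (he ((DCoh.Rpush f).obj (L ⊗ Md))).2 (mapP (DCoh.Rpush f) (p₀ M Md L) ≫ τ)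
  dsimp at hc
  have : IsIso c := by
    refine Groth.Agent.Dual.H355.GenUniv.isIso_of_generators DCoh.IsQCohD (fun P => DCoh.IsPerfect P)
      (fun P hP => PerfA.PerfLocal.isPerfect_shift hP (-1))
      (fun E hE hE' => GenProd.isZero_of_forall_perfect E hE hE')
      (S0998.result f _ (GenProd.isQCohD_tensor h.qcoh (hq _ hMd)))
      (hRH K s hKs hK) _ (fun Q hQ => ?_)
    obtain ⟨Qd, hQd, ⟨hp⟩⟩ := PerfDual.exists_exactPairing Q hQ
    have h1 : UnivAt (mapP (DCoh.Rpush f) (p₀ M Md L) ≫ τ) Q :=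
      univAt_push_dual (lAdj f) M Md τ Q Qd
        (h.bij _ (GenProd.isQCohD_tensor (S1054.result f _ (hq _ hQ)) (hq _ hM)))
    have h2 : (fun x : Q ⟶ (DCoh.Rpush f).obj (L ⊗ Md) =>
        (x ▷ (DCoh.Rpush f).obj M) ≫ (mapP (DCoh.Rpush f) (p₀ M Md L) ≫ τ)) =
        (fun y : Q ⟶ RH.obj K => y ▷ (DCoh.Rpush f).obj M ≫ adj.counit.app K) ∘
          (fun x : Q ⟶ (DCoh.Rpush f).obj (L ⊗ Md) => x ≫ c) := by
      funext x
      simp only [Function.comp_apply, comp_whiskerRight, Category.assoc]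
      rw [hc]
    rw [UnivAt, h2] at h1
    exact (Function.Bijective.of_comp_iff' (he Q) _).1 h1
  exact he.of_iso (asIso c) (Iso.refl _) _ (by simp [hc])

end Push

section Square

variable {X Y X' Y' : Scheme.{u}} {f : X ⟶ Y} {g : Y' ⟶ Y} {f' : X' ⟶ Y'} {g' : X' ⟶ X}
  [CompactSpace X] [QuasiSeparatedSpace X] [CompactSpace Y] [QuasiSeparatedSpace Y]
  [CompactSpace X'] [QuasiSeparatedSpace X'] [CompactSpace Y'] [QuasiSeparatedSpace Y']
  [DCoh.HasRpush f] [DCoh.HasRpush f'] [DCoh.HasLpull f] [DCoh.HasLpull f'] [DCoh.HasLpull g] [DCoh.HasLpull g']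

/-- The universal property tested on `Lf'^* Q ⊗ Lg'^* M`. -/
theorem bijective_tensor (w : g' ≫ f = f' ≫ g)
    (hpc : ∀ P : DCoh.D X, DCoh.IsPerfect P → ∀ m : ℤ, DCoh.IsPseudoCoherentD m ((DCoh.Rpush f).obj P))
    (hbc : ∀ E : DCoh.D X, DCoh.IsQCohD E → IsIso ((beta w).app E)) {c : ℤ} (hg : Bound g c)
    {K : DCoh.D Y} (hK : DCoh.IsQCohD K) {s : ℤ} (hKs : K.IsGE s) {L : DCoh.D X}
    {τ : (DCoh.Rpush f).obj L ⟶ K} (h : IsUniv f K L τ)
    (τ' : (DCoh.Rpush f').obj ((DCoh.Lpull g').obj L) ⟶ (DCoh.Lpull g).obj K)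
    (hτ' : (beta w).app L ≫ τ' = (DCoh.Lpull g).map τ) (M : DCoh.D X) (hM : DCoh.IsPerfect M)
    (Q : DCoh.D Y') (hQ : DCoh.IsPerfect Q) :
    Function.Bijective (fun φ : (DCoh.Lpull f').obj Q ⊗ (DCoh.Lpull g').obj M ⟶ (DCoh.Lpull g').obj L =>
      (DCoh.Rpush f').map φ ≫ τ') := by
  have hq : ∀ {Z : Scheme.{u}} (P : DCoh.D Z), DCoh.IsPerfect P → DCoh.IsQCohD P :=
    fun P hP => PerfA.QCohD.isQCohD_of_isPerfect _ hP
  obtain ⟨Md, hMd, ⟨hp⟩⟩ := PerfDual.exists_exactPairing M hM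
  obtain ⟨Qd, hQd, ⟨hp''⟩⟩ := PerfDual.exists_exactPairing Q hQ
  have hN : IsIso ((beta w).app (L ⊗ Md)) := hbc _ (GenProd.isQCohD_tensor h.qcoh (hq _ hMd))
  have hM' : IsIso ((beta w).app M) := hbc _ (hq _ hM)
  have h₄ : IsIso (((lAdj f').unit.app Q ⊗ₘ (beta w).app M) ≫
      Functor.LaxMonoidal.μ (DCoh.Rpush f') ((DCoh.Lpull f').obj Q) ((DCoh.Lpull g').obj M)) := by
    rw [unit_tensor_comp (lAdj f') Q (B := (DCoh.Lpull g').obj M) ((beta w).app M)]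
    have h1 : IsIso (proj (lAdj f') Q ((DCoh.Lpull g').obj M)) :=
      isIso_proj (lAdj f') Q Qd ((DCoh.Lpull g').obj M)
    have h2 : IsIso (Q ◁ (beta w).app M) := inferInstance
    exact IsIso.comp_isIso' h2 h1
  have hu : Function.Bijective (fun ψ : (DCoh.Lpull f').obj Q ⟶ (DCoh.Lpull g').obj (L ⊗ Md) =>
      (lAdj f').unit.app Q ≫ (DCoh.Rpush f').map ψ) := by
    have h1 : (fun ψ : (DCoh.Lpull f').obj Q ⟶ (DCoh.Lpull g').obj (L ⊗ Md) =>
        (lAdj f').unit.app Q ≫ (DCoh.Rpush f').map ψ) =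
        (lAdj f').homEquiv Q ((DCoh.Lpull g').obj (L ⊗ Md)) := by
      funext ψ
      rw [Adjunction.homEquiv_unit]
    rw [h1]
    exact Equiv.bijective _
  have h3 := isHomPair_map g hg (hpc M hM) hKs (isHomPair_push f hK hKs h M Md hM hMd (hpc M hM))
  have h₃ : UnivAt (mapP (DCoh.Lpull g) (mapP (DCoh.Rpush f) (p₀ M Md L) ≫ τ)) Q := h3 Q
  exact bijective_bc (beta w) (p₀ M Md L) τ ((lAdj f').unit.app Q) τ' hτ'
    (univAt_mapP (DCoh.Lpull g') M Md _ _) hu hN h₃ h₄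

/-- **Base change of universal pairs.** -/
theorem isUniv_bc (hsq : IsPullback g' f' f g)
    (hpc : ∀ P : DCoh.D X, DCoh.IsPerfect P → ∀ m : ℤ, DCoh.IsPseudoCoherentD m ((DCoh.Rpush f).obj P))
    (hbc : ∀ E : DCoh.D X, DCoh.IsQCohD E → IsIso ((beta hsq.w).app E)) {c : ℤ} (hg : Bound g c)
    {K : DCoh.D Y} (hK : DCoh.IsQCohD K) {s : ℤ} (hKs : K.IsGE s) {L : DCoh.D X}
    {τ : (DCoh.Rpush f).obj L ⟶ K} (h : IsUniv f K L τ)
    (τ' : (DCoh.Rpush f').obj ((DCoh.Lpull g').obj L) ⟶ (DCoh.Lpull g).obj K)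
    (hτ' : (beta hsq.w).app L ≫ τ' = (DCoh.Lpull g).map τ) :
    IsUniv f' ((DCoh.Lpull g).obj K) ((DCoh.Lpull g').obj L) τ' := by
  have hq : ∀ {Z : Scheme.{u}} (P : DCoh.D Z), DCoh.IsPerfect P → DCoh.IsQCohD P :=
    fun P hP => PerfA.QCohD.isQCohD_of_isPerfect _ hP
  refine Groth.Agent.Dual.H355.GenUniv.isUniv_of_class f' (S1054.result g K hK) (S1054.result g' L h.qcoh) τ'
    (fun N => ∃ (P : DCoh.D X) (Q : DCoh.D Y'), DCoh.IsPerfect P ∧ DCoh.IsPerfect Q ∧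
      Nonempty (N ≅ (DCoh.Lpull f').obj Q ⊗ (DCoh.Lpull g').obj P)) ?_ ?_ ?_ ?_
  · rintro N ⟨P, Q, hP, hQ, ⟨e⟩⟩
    exact PerfA.QCohD.isQCohD_of_iso e.symm
      (GenProd.isQCohD_tensor (S1054.result f' Q (hq _ hQ)) (S1054.result g' P (hq _ hP)))
  · rintro N ⟨P, Q, hP, hQ, ⟨e⟩⟩
    obtain ⟨e1⟩ := nonempty_tensor_shift ((DCoh.Lpull f').obj Q) ((DCoh.Lpull g').obj P) (-1)
    obtain ⟨e2⟩ := nonempty_lpull_shift f' Q (-1)
    exact ⟨P, Q⟦(-1 : ℤ)⟧, hP, PerfA.PerfLocal.isPerfect_shift hQ (-1),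
      ⟨(shiftFunctor (DCoh.D X') (-1)).mapIso e ≪≫ e1 ≪≫ whiskerRightIso e2 _⟩⟩
  · intro M hM hM'
    exact GenProd.isZero_of_forall' hsq M hM fun P Q hP hQ φ => hM' _ ⟨P, Q, hP, hQ, ⟨Iso.refl _⟩⟩ φ
  · rintro N ⟨P, Q, hP, hQ, ⟨e⟩⟩
    have h1 := bijective_tensor hsq.w hpc hbc hg hK hKs h τ' hτ' P hP Q hQ
    have h2 : Function.Bijective (fun g : N ⟶ (DCoh.Lpull g').obj L => e.inv ≫ g) :=
      (e.homFromEquiv (Z := (DCoh.Lpull g').obj L)).bijective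
    have h3 : Function.Bijective (fun x : (DCoh.Rpush f').obj ((DCoh.Lpull f').obj Q ⊗ (DCoh.Lpull g').obj P) ⟶
        (DCoh.Lpull g).obj K => (DCoh.Rpush f').map e.hom ≫ x) :=
      (((DCoh.Rpush f').mapIso e.symm).homFromEquiv (Z := (DCoh.Lpull g).obj K)).bijective
    convert h3.comp (h1.comp h2) using 1
    funext x
    simp

end Square

end K478.PcBC
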