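import Groth.Agent.PerfB.BCFlatPush
import Groth.Agent.Dual.H379.TorBC
import Groth.Agent.CycA.TorShift
import Mathlib.CategoryTheory.Abelian.Projective.Extend
import Mathlib.Algebra.Homology.HomotopyCategory.MappingCone
import Mathlib.Algebra.Homology.HomotopyCategory.HomologicalFunctor

/-!
# Tor-independence and K-flat complexes, algebra

`A → B` a homomorphism of commutative rings, `A'` an `A`-module with `Tor^A_i(B, A') = 0` for `i > 0`, `P` a K-flat
complex of `B`-modules and `t : Q ⟶ P|_A` a K-flat resolution over `A`.  Then `A' ⊗_A t` is a quasi-isomorphism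
(`acyclic_tensorLeft_res`).
-/

set_option autoImplicit false

universe v u

open CategoryTheory CategoryTheory.Limits MonoidalCategory HomologicalComplex

namespace K478.TorAlg

section Abs

variable {C : Type*} [Category* C] [Abelian C] {D : Type*} [Category* D] [Abelian D]

/-- Exactness of a mapping cone in a degree. -/
lemma exactAt_mappingCone {K L : CochainComplex C ℤ} (f : K ⟶ L) (n : ℤ) (hK : K.ExactAt (n + 1))
    (hL : L.ExactAt n) : (CochainComplex.mappingCone f).ExactAt n := by
  rw [HomologicalComplex.exactAt_iff_isZero_homology] at hK hL ⊢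
  let H := HomotopyCategory.homologyFunctor C (ComplexShape.up ℤ) n
  have e := fun (n : ℤ) (X : CochainComplex C ℤ) =>
    (HomotopyCategory.homologyFunctorFactors C (ComplexShape.up ℤ) n).app X
  refine IsZero.of_iso ?_ (e n _).symm
  have hT := Pretriangulated.rot_of_distTriang _ (HomotopyCategory.mappingCone_triangleh_distinguished f)
  have h1 := H.map_distinguished_exact _ hT
  refine h1.isZero_of_both_zeros ((hL.of_iso (e n _)).eq_of_src _ _) (IsZero.eq_of_tgt ?_ _ _)
  exact (hK.of_iso (e (n + 1) _)).of_iso (((HomotopyCategory.homologyFunctor C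
    (ComplexShape.up ℤ) 0).shiftIso 1 n (n + 1) (by lia)).app _)

/-- The mapping cone of a quasi-isomorphism is acyclic. -/
lemma acyclic_mappingCone {K L : CochainComplex C ℤ} (f : K ⟶ L) [QuasiIso f] :
    (CochainComplex.mappingCone f).Acyclic := by
  rw [← HomotopyCategory.quotient_obj_mem_subcategoryAcyclic_iff_acyclic]
  have h : HomotopyCategory.quasiIso C (ComplexShape.up ℤ) ((HomotopyCategory.quotient _ _).map f) := by
    rw [HomotopyCategory.quotient_map_mem_quasiIso_iff, HomologicalComplex.mem_quasiIso_iff]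
    infer_instance
  rw [HomotopyCategory.quasiIso_eq_trW_subcategoryAcyclic] at h
  exact (ObjectProperty.trW_iff_of_distinguished _ _ (HomotopyCategory.mappingCone_triangleh_distinguished f)).1 h

/-- A morphism with acyclic mapping cone is a quasi-isomorphism. -/
lemma quasiIso_of_acyclic {K L : CochainComplex C ℤ} (f : K ⟶ L)
    (h : (CochainComplex.mappingCone f).Acyclic) : QuasiIso f := by
  rw [← HomologicalComplex.mem_quasiIso_iff, ← HomotopyCategory.quotient_map_mem_quasiIso_iff,
    HomotopyCategory.quasiIso_eq_trW_subcategoryAcyclic]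
  exact (ObjectProperty.trW_iff_of_distinguished _ _ (HomotopyCategory.mappingCone_triangleh_distinguished f)).2
    ((HomotopyCategory.quotient_obj_mem_subcategoryAcyclic_iff_acyclic _).2 h)

/-- The functor `T` makes `f` a quasi-isomorphism if `T` of the cone is acyclic. -/
lemma quasiIso_map_of_acyclic (T : C ⥤ D) [T.Additive] {K L : CochainComplex C ℤ} (f : K ⟶ L)
    (h : ((T.mapHomologicalComplex (ComplexShape.up ℤ)).obj (CochainComplex.mappingCone f)).Acyclic) :
    QuasiIso ((T.mapHomologicalComplex (ComplexShape.up ℤ)).map f) :=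
  quasiIso_of_acyclic _ fun n => ExactAt.of_iso (h n) (CochainComplex.mappingCone.mapHomologicalComplexIso f T)

/-- A right exact functor, applied to the mapping cone of a quasi-isomorphism of complexes in nonpositive degrees
all whose images are exact in negative degrees. -/
theorem acyclic_map_mappingCone (T : C ⥤ D) [T.Additive] [PreservesFiniteColimits T]
    {K L : CochainComplex C ℤ} (f : K ⟶ L) [QuasiIso f] [K.IsStrictlyLE 0] [L.IsStrictlyLE 0]
    (hK : ∀ n : ℤ, n < 0 → ((T.mapHomologicalComplex (ComplexShape.up ℤ)).obj K).ExactAt n)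
    (hL : ∀ n : ℤ, n < 0 → ((T.mapHomologicalComplex (ComplexShape.up ℤ)).obj L).ExactAt n) :
    ((T.mapHomologicalComplex (ComplexShape.up ℤ)).obj (CochainComplex.mappingCone f)).Acyclic := by
  have hac : (CochainComplex.mappingCone f).Acyclic := acyclic_mappingCone f
  have hz : ∀ n : ℤ, 0 < n → IsZero ((CochainComplex.mappingCone f).X n) := fun n hn => by
    rw [CochainComplex.mappingCone.isZero_X_iff]
    exact ⟨CochainComplex.isZero_of_isStrictlyLE K 0 _ (by lia), CochainComplex.isZero_of_isStrictlyLE L 0 _ hn⟩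
  intro n
  rcases lt_or_ge n (-1) with hn | hn
  · have h := exactAt_mappingCone ((T.mapHomologicalComplex (ComplexShape.up ℤ)).map f) n (hK _ (by lia)) (hL _ (by lia))
    exact ExactAt.of_iso h (CochainComplex.mappingCone.mapHomologicalComplexIso f T).symm
  · have hep : Epi ((CochainComplex.mappingCone f).d n (n + 1)) := by
      have h2 := hac (n + 1)
      rw [HomologicalComplex.exactAt_iff' _ n (n + 1) (n + 1 + 1) (by simp) (by simp)] at h2
      exact h2.epi_f ((hz (n + 1 + 1) (by lia)).eq_of_tgt _ _)
    have h1 := hac n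
    rw [HomologicalComplex.exactAt_iff' _ (n - 1) n (n + 1) (by simp) (by simp)] at h1 ⊢
    exact h1.map_of_epi_of_preservesCokernel T hep inferInstance

end Abs

section Ring

open Groth.Agent.Dcoh.KFlatAbs Groth.Agent.Dcoh.KFlatSingle Groth.Agent.PerfB.RingKFlat
  Groth.Agent.PerfB.BCFlat Groth.Agent.PerfB Groth.Agent.Dcoh

variable {A : Type u} [CommRing A]

/-- Vanishing of `Tor_{p+1}(M, N)` is exactness of `M ⊗ P` in degree `-(p+1)`. -/
theorem exactAt_tensorLeft (M : Type u) [AddCommGroup M] [Module A M] (N : ModuleCat.{u} A)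
    (P : ProjectiveResolution N) (p : ℕ) (h : Subsingleton (DRing.Tor A (p + 1) M N)) :
    (((tensorLeft (ModuleCat.of A M)).mapHomologicalComplex (ComplexShape.up ℤ)).obj
      P.cochainComplex).ExactAt (-((p + 1 : ℕ) : ℤ)) := by
  rw [HomologicalComplex.exactAt_iff' _ (-((p + 2 : ℕ) : ℤ)) (-((p + 1 : ℕ) : ℤ)) (-(p : ℤ))
    (by simp; omega) (by simp)]
  have h1 : ((P.complex.sc' (p + 2) (p + 1) p).map (tensorLeft (ModuleCat.of A M))).Exact := by
    rw [ShortComplex.ShortExact.moduleCat_exact_iff_function_exact]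
    exact (Groth.Agent.Flat2H.TorDim.subsingleton_tor_succ_iff (M := M) P p).1 h
  exact (ShortComplex.exact_iff_of_iso ((tensorLeft (ModuleCat.of A M)).mapShortComplex.mapIso
    (Groth.Agent.Dual.H379.TorBC.scIso N P p))).2 h1

/-- `M ⊗ V` is acyclic, for the cone `V` of a projective resolution of `N`, if `Tor_i(M, N) = 0` for `i > 0`. -/
theorem acyclic_tensorLeft_cone (M : ModuleCat.{u} A) (N : ModuleCat.{u} A)
    (P : ProjectiveResolution N) (h : ∀ i : ℕ, 0 < i → Subsingleton (DRing.Tor A i M N)) :
    (((tensorLeft M).mapHomologicalComplex (ComplexShape.up ℤ)).obj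
      (CochainComplex.mappingCone P.π')).Acyclic := by
  refine acyclic_map_mappingCone (tensorLeft M) P.π' (fun n hn => ?_) (fun n hn => ?_)
  · obtain ⟨p, rfl⟩ : ∃ p : ℕ, n = -((p + 1 : ℕ) : ℤ) := ⟨(-n - 1).toNat, by omega⟩
    exact exactAt_tensorLeft M N P p (h _ (by omega))
  · refine ShortComplex.exact_of_isZero_X₂ _ ?_
    exact (tensorLeft M).map_isZero (isZero_single_obj_X (ComplexShape.up ℤ) 0 N n (by omega))

variable {B : Type u} [CommRing B] [Algebra A B]

/-- `W ⊗_A P|_A` is acyclic for `P` K-flat over `B` if `B ⊗_A W` is acyclic. -/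
theorem acyclic_tens_res (W : CochainComplex (ModuleCat.{u} A) ℤ)
    (hW : (((tensorLeft ((res A B).obj (𝟙_ (ModuleCat.{u} B)))).mapHomologicalComplex
      (ComplexShape.up ℤ)).obj W).Acyclic) (P : CochainComplex (ModuleCat.{u} B) ℤ)
    (hP : KFl (TR B) P) :
    (((TR A).map₂CochainComplex.obj W).obj
      (((res A B).mapHomologicalComplex (ComplexShape.up ℤ)).obj P)).Acyclic := by
  have h0 : (((GN A B (𝟙_ _)).mapHomologicalComplex (ComplexShape.up ℤ)).obj W).Acyclic := by
    refine acyclic_of_res (R := A) _ ?_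
    let e : GN A B (𝟙_ _) ⋙ res A B ≅ tensorLeft ((res A B).obj (𝟙_ _)) :=
      NatIso.ofComponents (fun L => (cbcData A B).e (𝟙_ _) L) (fun g => (cbcData A B).nat₂ (𝟙_ _) g)
    exact acyclic_of_iso ((NatIso.mapHomologicalComplex e (ComplexShape.up ℤ)).app W).symm hW
  have h1 := acyclic_res (R := A) _ (hP _ h0)
  have h2 := acyclic_of_iso (BifCompare.iso (data A B (𝟙_ _)) W P).symm h1
  let e : FN A B (𝟙_ _) ≅ res A B := Functor.isoWhiskerRight (rightUnitorNatIso (ModuleCat.{u} B)) (res A B)
  exact acyclic_of_iso (((TR A).map₂CochainComplex.obj W).mapIso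
    ((NatIso.mapHomologicalComplex e (ComplexShape.up ℤ)).app P)) h2

/-- The main algebraic input: `A' ⊗_A -` preserves the quasi-isomorphism `Q ⟶ P|_A`. -/
theorem acyclic_tensorLeft_res (A' : ModuleCat.{u} A)
    (htor : ∀ i : ℕ, 0 < i → Subsingleton (DRing.Tor A i ((res A B).obj (𝟙_ (ModuleCat.{u} B))) A'))
    (P : CochainComplex (ModuleCat.{u} B) ℤ) (hP : KFl (TR B) P)
    (Q : CochainComplex (ModuleCat.{u} A) ℤ) (hQ : KFl (TR A) Q)
    (t : Q ⟶ ((res A B).mapHomologicalComplex (ComplexShape.up ℤ)).obj P) [QuasiIso t] :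
    (((tensorLeft A').mapHomologicalComplex (ComplexShape.up ℤ)).obj
      (CochainComplex.mappingCone t)).Acyclic := by
  let R := projectiveResolution A'
  let W := CochainComplex.mappingCone R.π'
  have h1 : (((TR A).map₂CochainComplex.obj R.cochainComplex).obj (CochainComplex.mappingCone t)).Acyclic := by
    have h := kfl_flip_of_projective R.cochainComplex 0 (fun j => inferInstance) _ (acyclic_mappingCone t)
    exact acyclic_of_iso (mapBifunctorFlipIso R.cochainComplex (CochainComplex.mappingCone t) (TR A)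
      (ComplexShape.up ℤ)) h
  have h2 := hQ W (acyclic_mappingCone R.π')
  have h3 := acyclic_tens_res W (acyclic_tensorLeft_cone _ A' R htor) P hP
  have h4 := CxFun.acyclic_mappingCone ((TR A).map₂CochainComplex.obj W) t h2 h3
  have h5 := CxFun.acyclic_of_mappingCone₂
    ((TR A).map₂CochainComplex.flip.obj (CochainComplex.mappingCone t)) R.π' h1 h4
  exact acyclic_of_iso (TensSingle.singleLeftIsoApp (TR A) A' (CochainComplex.mappingCone t)).symm h5

end Ring
end K478.TorAlg
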