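import Groth.Agent.Dual3.K478.TorAlg
import Groth.Agent.PerfB.TildeLpull
import Groth.Agent.Dual.H306.BCLeft
import Groth.Agent.Models.TorVan2

/-!
# Tor-independent base change

* `TorIndep f g`: tor-independence of `f : X ⟶ Y` and `g : Y' ⟶ Y` in terms of affine opens (verbatim the hypothesis
  of the statements); `TorVan α φ`: the corresponding vanishing for rings; `TorIndep.torVan`, `torIndep_of_torVan`,
  `TorIndep.restrict` (restriction to opens), `TorVan.symm`.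
* `isIso_lpullCounitQ_push`: `Lα^*` of `φ_* (P^~)` is computed by `α^*` for `P` K-flat over `B`.
* `bc_tor`: for a cartesian square with `f` quasi-compact quasi-separated and tor-independent from `g`, derived base
  change holds for `K ∈ D_QCoh(O_X)`, in terms of arrows (`Groth.Agent.PerfB.BCTot`).
* `exists_iso`: the frozen form, for arbitrary adjunctions.
-/

set_option autoImplicit false

universe u

open CategoryTheory CategoryTheory.Limits AlgebraicGeometry Pretriangulated MonoidalCategory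

attribute [local instance] HasDerivedCategory.standard

namespace K478.TorBC

open Groth.Agent Groth.Agent.PerfB Groth.Agent.PerfB.BCTot Groth.Agent.PerfB.BCTot.Tot Groth.Agent.PerfB.BCMod
  Groth.Agent.PerfB.BCCx Groth.Agent.PerfB.BCDer Groth.Agent.PerfB.BCSch Groth.Agent.PerfB.BCTri
  Groth.Agent.PerfB.BCShift Groth.Agent.PerfB.BCPush Groth.Agent.PerfB.BCMV
  Groth.Agent.PerfB.BCGeom Groth.Agent.PerfB.BCLoc Groth.Agent.PerfB.BCAff Groth.Agent.PerfB.BCAdapt
  Groth.Agent.Dcoh.DerHo Groth.Agent.Dcoh.DerComp Groth.Agent.Dcoh.DerSch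
  Groth.Agent.Dcoh.KFlatAbs Groth.Agent.Dcoh.KFlatSingle Groth.Agent.PerfB.RingKFlat

attribute [local instance] Groth.Agent.PerfB.BCSch.hasLpull Groth.Agent.Dcoh.DerSch.hasRpush

section Ring

variable {A A' : Type u} [CommRing A] [CommRing A'] (α : A →+* A')

/-- The underlying `A`-module of `A' ⊗_A M`. -/
noncomputable def extRes : ModuleCat.extendScalars.{u, u, u} α ⋙ ModuleCat.restrictScalars α ≅
    tensorLeft ((ModuleCat.restrictScalars α).obj (ModuleCat.of A' A')) :=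
  letI := α.toAlgebra
  NatIso.ofComponents (fun M => LinearEquiv.toModuleIso
    ({ AddEquiv.refl _ with map_smul' := fun r x => algebraMap_smul (M := TensorProduct A A' M) A' r x } :
      (ModuleCat.restrictScalars α).obj ((ModuleCat.extendScalars.{u, u, u} α).obj M) ≃ₗ[A]
      ((tensorLeft ((ModuleCat.restrictScalars α).obj (ModuleCat.of A' A'))).obj M)))
    (fun {M N} f => by
      ext1
      apply LinearMap.ext
      intro x
      rfl)

end Ring

section Counit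

variable {A B A' : CommRingCat.{u}} (φ : A ⟶ B) (α : A ⟶ A')

/-- `T(cone)` is acyclic for `T = α^* ∘ ~` if `A' ⊗ cone` is. -/
lemma acyclic_tilde_pull (V : CochainComplex (ModuleCat.{u} A) ℤ)
    (hV : (((tensorLeft ((ModuleCat.restrictScalars α.hom).obj (ModuleCat.of A' A'))).mapHomologicalComplex
      (ComplexShape.up ℤ)).obj V).Acyclic) :
    (((tilde.functor A ⋙ Scheme.Modules.pullback (Spec.map α)).mapHomologicalComplex
      (ComplexShape.up ℤ)).obj V).Acyclic := by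
  have h1 : (((ModuleCat.extendScalars.{u, u, u} α.hom).mapHomologicalComplex
      (ComplexShape.up ℤ)).obj V).Acyclic := by
    intro n
    have h2 := acyclic_of_iso ((NatIso.mapHomologicalComplex (extRes α.hom) (ComplexShape.up ℤ)).app V).symm hV n
    exact (ModuleCat.restrictScalars α.hom).reflects_exact_of_faithful _ h2
  have h3 := acyclic_map_of_preservesHomology (tilde.functor A') _ h1
  exact acyclic_of_iso ((NatIso.mapHomologicalComplex (TildeLpull.modIso α) (ComplexShape.up ℤ)).app V).symm h3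


/-- `Lα^*` of `φ_* (P^~)` is computed by `α^*`, for `P` K-flat over `B`, if `Tor^A_i(B, A') = 0` for `i > 0`. -/
theorem isIso_lpullCounitQ_push
    (htor : ∀ i : ℕ, 0 < i → Subsingleton (DRing.Tor A i
      ((ModuleCat.restrictScalars φ.hom).obj (ModuleCat.of B B))
      ((ModuleCat.restrictScalars α.hom).obj (ModuleCat.of A' A'))))
    (P : CochainComplex (ModuleCat.{u} B) ℤ) (hP : KFl (TR B) P) :
    IsIso ((lpullCounitQ (Spec.map α)).app ((pushCx (Spec.map φ)).obj ((tildeCx B).obj P))) := by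
  let := φ.hom.toAlgebra
  obtain ⟨Q, t, ht, hQ⟩ := KProjFlat.exists_kfl (((ModuleCat.restrictScalars φ.hom).mapHomologicalComplex
    (ComplexShape.up ℤ)).obj P)
  have h1 := TorAlg.acyclic_tensorLeft_res (A := A) (B := B)
    ((ModuleCat.restrictScalars α.hom).obj (ModuleCat.of A' A')) htor P hP Q hQ t
  have h2 : QuasiIso ((pullCx (Spec.map α)).map ((tildeCx A).map t)) :=
    TorAlg.quasiIso_map_of_acyclic (tilde.functor A ⋙ Scheme.Modules.pullback (Spec.map α)) t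
      (acyclic_tilde_pull α _ h1)
  have h3 : QuasiIso ((tildeCx A).map t) :=
    TorAlg.quasiIso_map_of_acyclic (tilde.functor A) t
      (acyclic_map_of_preservesHomology (tilde.functor A) _ (TorAlg.acyclic_mappingCone t))
  have h4 : IsIso ((lpullCounitQ (Spec.map α)).app ((tildeCx A).obj Q)) :=
    isIso_lpullCounitQ_app _ _ (BCFlatPush.isKFlat_tilde Q hQ)
  have i3 : IsIso (DerivedCategory.Q.map ((tildeCx A).map t)) := by
    rwa [DerivedCategory.isIso_Q_map_iff_quasiIso]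
  have i2 : IsIso (DerivedCategory.Q.map ((pullCx (Spec.map α)).map ((tildeCx A).map t))) := by
    rwa [DerivedCategory.isIso_Q_map_iff_quasiIso]
  have e5 := (lpullCounitQ (Spec.map α)).naturality ((tildeCx A).map t)
  have h5 : IsIso ((lpullCounitQ (Spec.map α)).app ((tildeCx A).obj
      (((ModuleCat.restrictScalars φ.hom).mapHomologicalComplex (ComplexShape.up ℤ)).obj P))) := by
    have : IsIso ((DerivedCategory.Q ⋙ DCoh.Lpull (Spec.map α)).map ((tildeCx A).map t)) :=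
      inferInstanceAs (IsIso ((DCoh.Lpull (Spec.map α)).map (DerivedCategory.Q.map ((tildeCx A).map t))))
    have : IsIso ((lpullCounitQ (Spec.map α)).app ((tildeCx A).obj Q) ≫
        ((Scheme.Modules.pullback (Spec.map α)).mapHomologicalComplex (ComplexShape.up ℤ) ⋙
          DerivedCategory.Q).map ((tildeCx A).map t)) := by
      have : IsIso (((Scheme.Modules.pullback (Spec.map α)).mapHomologicalComplex (ComplexShape.up ℤ) ⋙
          DerivedCategory.Q).map ((tildeCx A).map t)) := i2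
      infer_instance
    rw [← e5] at this
    exact IsIso.of_isIso_comp_left ((DerivedCategory.Q ⋙ DCoh.Lpull (Spec.map α)).map ((tildeCx A).map t)) _
  have : (ModuleCat.restrictScalars φ.hom ⋙ tilde.functor A).Additive := by
    refine ⟨?_⟩
    intro M N f g
    change tilde.map ((ModuleCat.restrictScalars φ.hom).map (f + g)) = _
    rw [Functor.map_add, tilde.map_add]
    rfl
  let e : (pushCx (Spec.map φ)).obj ((tildeCx B).obj P) ≅ (tildeCx A).obj
      (((ModuleCat.restrictScalars φ.hom).mapHomologicalComplex (ComplexShape.up ℤ)).obj P) :=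
    (NatIso.mapHomologicalComplex (PerfC.TildePush.tildePushIso φ) (ComplexShape.up ℤ)).app P
  exact (NatTrans.isIso_app_iff_of_iso (lpullCounitQ (Spec.map α)) e).2 h5

end Counit

section Tor

variable {A A₂ : Type u} [CommRing A] [CommRing A₂]

/-- Vanishing of `Tor` along an isomorphism of rings. -/
theorem tor_transport (e : A₂ ≃+* A) (M N M₂ N₂ : Type u) [AddCommGroup M] [Module A M] [AddCommGroup N]
    [Module A N] [AddCommGroup M₂] [Module A₂ M₂] [AddCommGroup N₂] [Module A₂ N₂]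
    (eM : M₂ ≃+ M) (hM : ∀ (r : A₂) (m : M₂), eM (r • m) = e r • eM m)
    (eN : N₂ ≃+ N) (hN : ∀ (r : A₂) (n : N₂), eN (r • n) = e r • eN n) (p : ℕ)
    (h : Subsingleton (DRing.Tor A₂ (p + 1) M₂ N₂)) : Subsingleton (DRing.Tor A (p + 1) M N) := by
  let := e.toRingHom.toAlgebra
  have hbij : Function.Bijective (algebraMap A₂ A) := e.bijective
  have hfl : Module.Flat A₂ A := Module.Flat.of_linearEquiv (LinearEquiv.ofBijective (Algebra.linearMap A₂ A) hbij).symm
  let := Module.compHom M (algebraMap A₂ A)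
  have : IsScalarTower A₂ A M := .of_algebraMap_smul fun _ _ => rfl
  let := Module.compHom N (algebraMap A₂ A)
  have : IsScalarTower A₂ A N := .of_algebraMap_smul fun _ _ => rfl
  let eM' : M₂ ≃ₗ[A₂] M := { eM with map_smul' := hM }
  let eN' : N₂ ≃ₗ[A₂] N := { eN with map_smul' := hN }
  have h1 := (Models.TorVan2.tor_congr_left eM' (p + 1) N₂).1 h
  have h2 := (Models.TorVan2.tor_congr_right eN' (p + 1) M).1 h1
  have h3 := (Models.TorVan2.tor_baseChange_iff (B := A₂) (C := A) N p M).1 h2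
  have : TensorProduct.CompatibleSMul A₂ A A N := ⟨fun a m n => by
    obtain ⟨r, rfl⟩ := hbij.2 a
    rw [algebraMap_smul, algebraMap_smul, TensorProduct.smul_tmul]⟩
  let k : TensorProduct A₂ A N ≃ₗ[A] N := TensorProduct.lidOfCompatibleSMul A₂ A N
  exact (Models.TorVan2.tor_congr_right k (p + 1) M).1 h3

end Tor

/-- Tor-independence of `f : X ⟶ Y` and `g : Y' ⟶ Y`: for all affine opens `U ⊆ Y`, `U' ⊆ g⁻¹(U)`, `V ⊆ f⁻¹(U)` the
groups `Tor_i^{Γ(U)}(Γ(U'), Γ(V))` vanish for `i > 0`. -/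
def TorIndep {X Y Y' : Scheme.{u}} (f : X ⟶ Y) (g : Y' ⟶ Y) : Prop :=
  ∀ (U : Y.Opens), IsAffineOpen U → ∀ (U' : Y'.Opens), IsAffineOpen U' → ∀ (hU' : U' ≤ g ⁻¹ᵁ U)
      (V : X.Opens), IsAffineOpen V → ∀ (hV : V ≤ f ⁻¹ᵁ U) (i : ℕ), 0 < i →
      Subsingleton (@DRing.Tor Γ(Y, U) _ i Γ(Y', U') Γ(X, V) _ (g.appLE U U' hU').hom.toModule _
        (f.appLE U V hV).hom.toModule)

/-- The vanishing of `Tor^A_i(A', B)` for `i > 0`. -/
def TorVan {A A' B : CommRingCat.{u}} (α : A ⟶ A') (φ : A ⟶ B) : Prop :=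
  ∀ i : ℕ, 0 < i → Subsingleton (@DRing.Tor A _ i A' B _ α.hom.toModule _ φ.hom.toModule)

/-- The identification of the sections over the image of an open immersion from a spectrum. -/
noncomputable def rEq {Y : Scheme.{u}} {A : CommRingCat.{u}} (b : Spec A ⟶ Y) [IsOpenImmersion b] :
    Γ(Y, b ''ᵁ ⊤) ≅ A := b.appIso ⊤ ≪≫ Scheme.ΓSpecIso A

lemma rEq_comm {Y Y' : Scheme.{u}} {A A' : CommRingCat.{u}} (g : Y' ⟶ Y) (b : Spec A ⟶ Y) [IsOpenImmersion b]
    (b' : Spec A' ⟶ Y') [IsOpenImmersion b'] (α : A ⟶ A') (e : Spec.map α ≫ b = b' ≫ g)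
    (h : b' ''ᵁ ⊤ ≤ g ⁻¹ᵁ (b ''ᵁ ⊤)) :
    g.appLE _ _ h ≫ (rEq b').hom = (rEq b).hom ≫ α := by
  have key : ∀ (p q : Spec A' ⟶ Y) (_ : p = q) (h1 : ⊤ ≤ p ⁻¹ᵁ (b ''ᵁ ⊤)) (h2 : ⊤ ≤ q ⁻¹ᵁ (b ''ᵁ ⊤)),
      p.appLE _ _ h1 = q.appLE _ _ h2 := by
    rintro p _ rfl _ _
    rfl
  simp only [rEq, Iso.trans_hom, Scheme.Hom.appIso_hom']
  rw [Category.assoc, ← Scheme.ΓSpecIso_naturality, ← Category.assoc, ← Category.assoc,
    Scheme.Hom.appLE_comp_appLE]
  congr 1
  have e3 : (Spec.map α).appTop = (Spec.map α).appLE ⊤ ⊤ le_top := (Scheme.Hom.appLE_eq_app _).symm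
  rw [e3]
  refine Eq.trans ?_ (Scheme.Hom.appLE_comp_appLE (Spec.map α) b _ ⊤ ⊤ _ _).symm
  exact key _ _ e.symm _ _


/-- The affine pieces of a tor-independent pair. -/
theorem TorIndep.torVan {X Y Y' : Scheme.{u}} {f : X ⟶ Y} {g : Y' ⟶ Y} (h : TorIndep f g)
    {A B A' : CommRingCat.{u}} (φ : A ⟶ B) (α : A ⟶ A') (a : Spec B ⟶ X) (b : Spec A ⟶ Y) (b' : Spec A' ⟶ Y')
    [IsOpenImmersion a] [IsOpenImmersion b] [IsOpenImmersion b'] (e1 : Spec.map φ ≫ b = a ≫ f)
    (e2 : Spec.map α ≫ b = b' ≫ g) : TorVan α φ := by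
  have hU' : b' ''ᵁ ⊤ ≤ g ⁻¹ᵁ (b ''ᵁ ⊤) := by
    rintro _ ⟨y, -, rfl⟩
    exact ⟨Spec.map α y, trivial, congr($e2 y)⟩
  have hV : a ''ᵁ ⊤ ≤ f ⁻¹ᵁ (b ''ᵁ ⊤) := by
    rintro _ ⟨y, -, rfl⟩
    exact ⟨Spec.map φ y, trivial, congr($e1 y)⟩
  intro i hi
  obtain ⟨p, rfl⟩ : ∃ p, i = p + 1 := ⟨i - 1, by omega⟩
  refine @tor_transport A Γ(Y, b ''ᵁ ⊤) _ _ (rEq b).commRingCatIsoToRingEquiv A' B Γ(Y', b' ''ᵁ ⊤) Γ(X, a ''ᵁ ⊤)
    _ α.hom.toModule _ φ.hom.toModule _ (g.appLE _ _ hU').hom.toModule _ (f.appLE _ _ hV).hom.toModule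
    (rEq b').commRingCatIsoToRingEquiv.toAddEquiv ?_ (rEq a).commRingCatIsoToRingEquiv.toAddEquiv ?_ p
    (h _ ?_ _ ?_ hU' _ ?_ hV _ hi)
  · intro r m
    change (rEq b').hom ((g.appLE _ _ hU').hom r * m) = α ((rEq b).hom r) * (rEq b').hom m
    rw [map_mul]
    congr 1
    exact congr($(rEq_comm g b b' α e2 hU') r)
  · intro r m
    change (rEq a).hom ((f.appLE _ _ hV).hom r * m) = φ ((rEq b).hom r) * (rEq a).hom m
    rw [map_mul]
    congr 1
    exact congr($(rEq_comm f b a φ e1 hV) r)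
  · exact (isAffineOpen_top _).image_of_isOpenImmersion b
  · exact (isAffineOpen_top _).image_of_isOpenImmersion b'
  · exact (isAffineOpen_top _).image_of_isOpenImmersion a

/-- Tor-independence from the affine pieces. -/
theorem torIndep_of_torVan {X Y Y' : Scheme.{u}} {f : X ⟶ Y} {g : Y' ⟶ Y}
    (h : ∀ {A B A' : CommRingCat.{u}} (φ : A ⟶ B) (α : A ⟶ A') (a : Spec B ⟶ X) (b : Spec A ⟶ Y)
      (b' : Spec A' ⟶ Y') [IsOpenImmersion a] [IsOpenImmersion b] [IsOpenImmersion b']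
      (_ : Spec.map φ ≫ b = a ≫ f) (_ : Spec.map α ≫ b = b' ≫ g), TorVan α φ) : TorIndep f g := by
  intro U hU U' hU' hUU' V hV hVU i hi
  exact h (f.appLE U V hVU) (g.appLE U U' hUU') hV.fromSpec hU.fromSpec hU'.fromSpec
    (IsAffineOpen.SpecMap_appLE_fromSpec _ _ _ _)
    (IsAffineOpen.SpecMap_appLE_fromSpec _ _ _ _) i hi

/-- Tor-independence of restrictions to opens. -/
theorem TorIndep.restrict {X Y Y' X₁ Y₁ Y₁' : Scheme.{u}} {f : X ⟶ Y} {g : Y' ⟶ Y} (h : TorIndep f g)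
    (a : X₁ ⟶ X) (b : Y₁ ⟶ Y) (b' : Y₁' ⟶ Y') [IsOpenImmersion a] [IsOpenImmersion b] [IsOpenImmersion b']
    (f₁ : X₁ ⟶ Y₁) (g₁ : Y₁' ⟶ Y₁) (e1 : f₁ ≫ b = a ≫ f) (e2 : g₁ ≫ b = b' ≫ g) : TorIndep f₁ g₁ :=
  torIndep_of_torVan fun φ α a' b₁ b₁' _ _ _ h1 h2 =>
    h.torVan φ α (a' ≫ a) (b₁ ≫ b) (b₁' ≫ b') (by rw [reassoc_of% h1, e1, Category.assoc])
      (by rw [reassoc_of% h2, e2, Category.assoc])

/-- Symmetric form of the vanishing. -/
theorem TorVan.symm {A A' B : CommRingCat.{u}} {α : A ⟶ A'} {φ : A ⟶ B} (h : TorVan α φ) : TorVan φ α := by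
  intro i hi
  let := α.hom.toAlgebra
  let := φ.hom.toAlgebra
  obtain ⟨e⟩ := CycA.TorShift.comm (A := A) i A' B
  have : Subsingleton (DRing.Tor A i A' B) := h i hi
  exact e.symm.toEquiv.subsingleton

theorem TorVan.res {A A' B : CommRingCat.{u}} {α : A ⟶ A'} {φ : A ⟶ B} (h : TorVan α φ) (i : ℕ) (hi : 0 < i) :
    Subsingleton (DRing.Tor A i
      ((ModuleCat.restrictScalars φ.hom).obj (ModuleCat.of B B))
      ((ModuleCat.restrictScalars α.hom).obj (ModuleCat.of A' A'))) :=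
  h.symm i hi

/-- Objects of `D_QCoh` of an affine scheme are represented by K-flat complexes of modules. -/
theorem exists_kfl (R : CommRingCat.{u}) (K : DCoh.D (Spec R)) (hK : DCoh.IsQCohD K) :
    ∃ P : CochainComplex (ModuleCat.{u} R) ℤ, KFl (TR R) P ∧
      Nonempty (K ≅ DerivedCategory.Q.obj ((tildeCx R).obj P)) := by
  obtain ⟨N, ⟨e⟩⟩ := Groth.Agent.PerfA.TildeMain.exists_iso R K hK
  obtain ⟨P, c, hc, hP⟩ := KProjFlat.exists_kfl (DerivedCategory.Q.objPreimage N)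
  have : IsIso (DerivedCategory.Q.map c) := (DerivedCategory.isIso_Q_map_iff_quasiIso _ _).2 hc
  exact ⟨P, hP, ⟨e.symm ≪≫ (tilde.functor R).mapDerivedCategory.mapIso
      ((DerivedCategory.Q.objObjPreimageIso N).symm ≪≫ (asIso (DerivedCategory.Q.map c)).symm) ≪≫
      (tilde.functor R).mapDerivedCategoryFactors.app P⟩⟩

/-- Tor-independent base change for squares of spectra and complexes `P^~`, `P` K-flat. -/
theorem bc_spec {A B A' B' : CommRingCat.{u}} {φ : A ⟶ B} {α : A ⟶ A'} {β : B ⟶ B'} {φ' : A' ⟶ B'}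
    (sq : IsPullback (Spec.map β) (Spec.map φ') (Spec.map φ) (Spec.map α)) (h : TorVan α φ)
    (P : CochainComplex (ModuleCat.{u} B) ℤ) (hP : KFl (TR B) P) :
    BC (toD.tot.map (cartLift (P := cxMod.{u}) ⟨Spec B, (tildeCx B).obj P⟩ (Spec.map β)))
      (Spec.map φ) (Spec.map φ') (Spec.map α) := by
  have hC : ∀ n, Coh.IsQCoh (((tildeCx B).obj P).X n) := fun n => by
    change Coh.IsQCoh ((tilde.functor B).obj _)
    exact inferInstance
  exact bc_affineD sq ((tildeCx B).obj P) hC (isIso_lpullCounitQ_push φ α h.res P hP)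

/-- Tor-independent base change, in terms of arrows: the affine case. -/
theorem affBC_tor {X X' S S' : Scheme.{u}} {f : X ⟶ S} {f' : X' ⟶ S'} {g : S' ⟶ S} {g' : X' ⟶ X}
    (h : TorIndep f g) (K : DCoh.D X) (hK : DCoh.IsQCohD K) :
    AffBC (cartLift (P := dPull.{u}) ⟨X, K⟩ g') f f' g := by
  refine affBC_of_spec ?_
  intro A B A' B' φ α β φ' a b a' b' _ _ _ _ sq e1 e2 e3 e4 K₀ K₀' m m' θ₀ hm hm' hθ₀ cm cm' e
  have cθ : IsCart θ₀ := isCart_restrict (isCart_cartLift _ _) cm cm' e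
  have q0 : DCoh.IsQCohD K₀ := by
    obtain ⟨i, -⟩ := cm.exists_iso (isCart_cartLift (P := dPull.{u}) ⟨X, K⟩ a) hm
    exact Groth.Agent.PerfA.QCohD.isQCohD_of_iso i.symm (isQCohD_lpull_open a hK)
  obtain ⟨P, hP, ⟨i⟩⟩ := exists_kfl B K₀ q0
  have c1 : IsCart (toD.tot.map (cartLift (P := cxMod.{u}) ⟨Spec B, (tildeCx B).obj P⟩ (Spec.map β))) :=
    isCart_toD_of_kflat (isCart_cartLift _ _) (BCFlatPush.isKFlat_tilde P hP)
  exact BC_of_cart (P := dPull.{u}) (K := DerivedCategory.Q.obj ((tildeCx B).obj P)) i _ θ₀ c1 cθ hθ₀.symm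
    (bc_spec sq (h.torVan φ α a b b' e1 e2) P hP)

/-- **Tor-independent base change**, in terms of arrows. -/
theorem bc_tor {X X' S S' : Scheme.{u}} {f : X ⟶ S} {f' : X' ⟶ S'} {g : S' ⟶ S} {g' : X' ⟶ X}
    [QuasiCompact f] [QuasiSeparated f] (sq : IsPullback g' f' f g) (h : TorIndep f g) (K : DCoh.D X)
    (hK : DCoh.IsQCohD K) : BC (cartLift (P := dPull.{u}) ⟨X, K⟩ g') f f' g :=
  bc_of_affBC sq _ rfl (affBC_tor h K hK)

/-- **Tor-independent base change**, for arbitrary adjunctions (the form of the statement S11109). -/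
theorem exists_iso {X Y X' Y' : Scheme.{u}} (f : X ⟶ Y) [QuasiCompact f]
    [QuasiSeparated f] (g : Y' ⟶ Y) (f' : X' ⟶ Y') (g' : X' ⟶ X) (hsq : IsPullback g' f' f g)
    (htor : TorIndep f g)
    [DCoh.HasRpush f] [DCoh.HasRpush g] [DCoh.HasLpull g] [DCoh.HasRpush f'] [DCoh.HasRpush g']
    [DCoh.HasLpull g'] (adjg : DCoh.Lpull g ⊣ DCoh.Rpush g) (adjg' : DCoh.Lpull g' ⊣ DCoh.Rpush g') :
    ∃ e : DCoh.Rpush g' ⋙ DCoh.Rpush f ≅ DCoh.Rpush f' ⋙ DCoh.Rpush g,
      ∀ E : DCoh.D X, DCoh.IsQCohD E → IsIso (DCoh.baseChangeApp adjg adjg' e E) := by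
  obtain ⟨e, he⟩ := Dcoh.BCCanon300.exists_iso dPull.{u} (Dcoh.BCFrozen1058.pull_eq f)
    (Dcoh.BCFrozen1058.pull_eq f') (Dcoh.BCFrozen1058.pull_eq g)
    (Dcoh.BCFrozen1058.pull_eq g') (lAdj f) (lAdj f') adjg adjg' hsq.w
  exact ⟨e, fun E hE => he E (bc_tor hsq htor E hE)⟩

end K478.TorBC
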