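import Groth.Agent.Dual3.K478.TorAdj

/-!
# Boundedness of right adjoints and tor-independent base change

* `induct`: induction along a finite cover by small opens;
* `BddOn a S`: uniform upper bound of `a` on `S`-local objects, `bddOn_sup`: the induction step;
* `exists_isLE`: for a tor-independent cartesian square `a'` is bounded above if `a` is.
-/

set_option autoImplicit false

universe u

open CategoryTheory CategoryTheory.Limits AlgebraicGeometry Pretriangulated

attribute [local instance] HasDerivedCategory.standard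

namespace K478.TorBdd

open Groth.Agent Groth.Agent.LoccohB Groth.Agent.LoccohB.LocAdj Groth.Agent.PerfA.Restrict
  Groth.Agent.LoccohB.SuppInd K478.TorBC K478.TorAdj Groth.Agent.LoccohB.VanOn

/-- Induction along a finite cover by small opens. -/
theorem induct {Y : Scheme.{u}} [CompactSpace Y] (small : Y.Opens → Prop)
    (hs : ∀ y : Y, ∃ W, small W ∧ y ∈ W) (P : Y.Opens → Prop) (h0 : P ⊥)
    (h1 : ∀ S W, small W → P S → P (S ⊔ W)) : P ⊤ := by
  classical
  choose W hW hy using hs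
  obtain ⟨t, ht⟩ := (isCompact_univ (X := Y)).elim_finite_subcover (fun y => (W y : Set Y))
    (fun y => (W y).2) (fun y _ => Set.mem_iUnion.2 ⟨y, hy y⟩)
  have h : ∀ t : Finset Y, P (t.sup W) := by
    intro t
    induction t using Finset.induction_on with
    | empty => exact h0
    | insert y t _ ih =>
      rw [Finset.sup_insert, sup_comm]
      exact h1 _ _ (hW y) ih
  have e : t.sup W = ⊤ := by
    refine top_unique fun x _ => ?_
    obtain ⟨y, hyt, hxy⟩ := Set.mem_iUnion₂.1 (ht (Set.mem_univ x))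
    exact (Finset.le_sup (f := W) hyt) hxy
  exact e ▸ h t

section Step

variable {X Y : Scheme.{u}} (f : X ⟶ Y) [DCoh.HasRpush f] (h : Pres f)
  (a : DCoh.DQCoh Y ⥤ DCoh.DQCoh X) (adj : Rq f h ⊣ a)

/-- Boundedness of `a` on `S`-local objects. -/
def BddOn (S : Y.Opens) : Prop :=
  ∃ d : ℤ, ∀ (Q : DCoh.DQCoh Y) (n : ℤ), IsLoc S Q.obj → Q.obj.IsLE n → (a.obj Q).obj.IsLE (n + d)

include adj in
lemma bddOn_bot : BddOn a ⊥ := by
  refine ⟨0, fun Q n hQ _ => ?_⟩
  have h1 : IsZero Q.obj := (IsZero.iff_id_eq_zero _).2 (hQ _ (vanOn_bot _) _)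
  have h2 : IsZero Q := (IsZero.iff_id_eq_zero _).2 (by
    ext
    exact h1.eq_of_src _ _)
  have : a.Additive := adj.right_adjoint_additive
  have h3 := (ObjectProperty.ι _).map_isZero (a.map_isZero h2)
  rw [DerivedCategory.isLE_iff]
  exact fun i _ => (DerivedCategory.homologyFunctor _ i).map_isZero h3

include adj in
/-- The induction step: a uniform bound for `a (Rj_* R)`, `R` on `W`. -/
lemma bddOn_sup (S W : Y.Opens) (hS : BddOn a S) [DCoh.HasRpush W.ι] (hj : Pres W.ι)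
    (hN : ∃ N : ℤ, ∀ (C : DCoh.D W) (n : ℤ), DCoh.IsQCohD C → C.IsLE n →
      ((DCoh.Rpush W.ι).obj C).IsLE (n + N))
    (hd : ∃ d : ℤ, ∀ (R : DCoh.DQCoh W) (n : ℤ), R.obj.IsLE n →
      (a.obj ((Rq W.ι hj).obj R)).obj.IsLE (n + d)) : BddOn a (S ⊔ W) := by
  obtain ⟨N₀, hN₀⟩ := hN
  obtain ⟨d, hd⟩ := hd
  obtain ⟨dS, hdS⟩ := hS
  let N := max N₀ 0
  refine ⟨max (N + 1 + dS) d, fun Q n hloc hQ => ?_⟩
  let R := (restQ W.ι).obj Q
  let B := (Rq W.ι hj).obj R
  let u : Q ⟶ B := (adjQ W.ι hj).unit.app Q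
  have hu : u.hom = η W Q.obj := by
    have := Adjunction.map_restrictFullyFaithful_unit_app
      (show restrictD W.ι ⊣ DCoh.Rpush W.ι from Dcoh.DerSch.restrictAdj W.ι)
      (DCoh.IsQCohD (X := Y)).fullyFaithfulι (DCoh.IsQCohD (X := W)).fullyFaithfulι
      (Iso.refl _) (Iso.refl _) Q (L := restQ W.ι) (R := Rq W.ι hj)
    refine this.trans ?_
    simp
  obtain ⟨C, v, w, hT⟩ := distinguished_cocone_triangle₁ u
  let T' := (ObjectProperty.ι (DCoh.IsQCohD (X := Y))).mapTriangle.obj (Triangle.mk v u w)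
  have hT' : T' ∈ distTriang (DCoh.D Y) :=
    (ObjectProperty.ι (DCoh.IsQCohD (X := Y))).map_distinguished _ hT
  have hη : IsIso ((restrictD W.ι).map T'.mor₂) := by
    have : T'.mor₂ = η W Q.obj := hu
    rw [this]
    exact isIso_restrictD_η W Q.obj
  have hCW : vanOn W C.obj :=
    (Triangle.isZero₁_iff_isIso₂ _ ((restrictD W.ι).map_distinguished T' hT')).2 hη
  have hBloc : IsLoc W B.obj := isLoc_Rpush W _
  have hCloc : IsLoc (S ⊔ W) C.obj := isLoc_ext₁ T' hT' hloc (hBloc.mono le_sup_right)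
  have hCloc' : IsLoc S C.obj := isLoc_of_vanOn S W C.obj hCloc hCW
  have hRle : R.obj.IsLE n := by
    rw [DerivedCategory.isLE_iff] at hQ ⊢
    exact fun i hi => ((Scheme.Modules.restrictFunctor W.ι).map_isZero (hQ i hi)).of_iso
      (HDrestrict W.ι Q.obj i)
  have hBle : B.obj.IsLE (n + N₀) := hN₀ R.obj n R.property hRle
  have hCle : C.obj.IsLE (n + N + 1) := by
    rw [DerivedCategory.isLE_iff] at hQ hBle ⊢
    intro i hi
    exact (DerivedCategory.HomologySequence.exact₁ T' hT' (i - 1) i (by lia)).isZero_X₂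
      ((hBle (i - 1) (by lia)).eq_of_src _ _) ((hQ i (by lia)).eq_of_tgt _ _)
  have h1 := hdS C _ hCloc' hCle
  have h2 := hd R n hRle
  let _ := Dcoh.DerSch.rpushCommShift f
  have := Dcoh.DerSch.rpush_isTriangulated f
  let _ : a.CommShift ℤ := adj.rightAdjointCommShift ℤ
  have : adj.CommShift ℤ := adj.commShift_of_leftAdjoint ℤ
  have : a.IsTriangulated := adj.isTriangulated_rightAdjoint
  have hT3 := (a ⋙ ObjectProperty.ι (DCoh.IsQCohD (X := X))).map_distinguished _ hT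
  rw [DerivedCategory.isLE_iff] at h1 h2 ⊢
  intro i hi
  exact (DerivedCategory.HomologySequence.exact₂ _ hT3 i).isZero_X₂
    ((h1 i (by lia)).eq_of_src _ _) ((h2 i (by lia)).eq_of_tgt _ _)

end Step

section Main

variable {X Y X' Y' : Scheme.{u}} [CompactSpace X] [QuasiSeparatedSpace X] [CompactSpace Y]
  [QuasiSeparatedSpace Y] [CompactSpace X'] [QuasiSeparatedSpace X'] [CompactSpace Y']
  [QuasiSeparatedSpace Y'] {f : X ⟶ Y} {g : Y' ⟶ Y} {f' : X' ⟶ Y'} {g' : X' ⟶ X}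
  (sq : IsPullback g' f' f g) (htor : TorIndep f g)
  [DCoh.HasRpush f] (hf : Pres f) (a : DCoh.DQCoh Y ⥤ DCoh.DQCoh X) (adj : Rq f hf ⊣ a)
  [DCoh.HasRpush f'] (hf' : Pres f') (a' : DCoh.DQCoh Y' ⥤ DCoh.DQCoh X') (adj' : Rq f' hf' ⊣ a')

include sq htor adj adj' in
/-- `a'` is bounded above if `a` is. -/
theorem exists_isLE (hbd : ∃ d : ℤ, ∀ (K : DCoh.DQCoh Y) (n : ℤ), K.obj.IsLE n → (a.obj K).obj.IsLE (n + d)) :
    ∃ d : ℤ, ∀ (K : DCoh.DQCoh Y') (n : ℤ), K.obj.IsLE n → (a'.obj K).obj.IsLE (n + d) := by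
  have key : BddOn a' ⊤ := by
    refine induct (fun W => IsAffineOpen W ∧ ∃ V : Y.Opens, IsAffineOpen V ∧ W ≤ g ⁻¹ᵁ V) (fun y => ?_)
      (BddOn a') (bddOn_bot f' hf' a' adj') ?_
    · obtain ⟨V, hV, hyV, -⟩ := exists_isAffineOpen_mem_and_subset (x := g y) (U := (⊤ : Y.Opens)) trivial
      obtain ⟨W, hW, hyW, hWV⟩ := exists_isAffineOpen_mem_and_subset (x := y) (U := g ⁻¹ᵁ V) hyV
      exact ⟨W, ⟨hW, V, hV, hWV⟩, hyW⟩
    · rintro S W ⟨hW, V, hV, hWV⟩ hS
      have : IsAffine W := hW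
      have : CompactSpace W := inferInstance
      have : QuasiSeparatedSpace (f' ⁻¹ᵁ W : Scheme.{u}) :=
        quasiSeparatedSpace_of_quasiSeparated (f' ⁻¹ᵁ W).ι
      have : QuasiSeparated f' := (quasiSeparated_iff_quasiSeparatedSpace f').2 inferInstance
      have : CompactSpace (f' ⁻¹ᵁ W : Scheme.{u}) :=
        (quasiCompact_iff_compactSpace (f' ∣_ W)).1 inferInstance
      have := Dcoh.DerSch.hasRpush (f' ∣_ W)
      have := Dcoh.DerSch.hasRpush W.ι
      have := Dcoh.DerSch.hasRpush (f' ⁻¹ᵁ W).ι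
      have hfW : Pres (f' ∣_ W) := fun K hK => S0998.result _ K hK
      have hj : Pres W.ι := fun K hK => S0998.result _ K hK
      have hj' : Pres (f' ⁻¹ᵁ W).ι := fun K hK => S0998.result _ K hK
      have hleft : (Rq (f' ∣_ W) hfW).IsLeftAdjoint := S1766.result _ _ (f' ∣_ W) hfW
      let aW := (Rq (f' ∣_ W) hfW).rightAdjoint
      let adjW : Rq (f' ∣_ W) hfW ⊣ aW := Adjunction.ofIsLeftAdjoint _
      obtain ⟨d, hd⟩ := exists_isLE_small sq htor hf a adj W hW hfW aW adjW V hV hWV hbd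
      obtain ⟨e⟩ := exists_rightAdjoint_iso f' hf' W hfW hj hj' a' adj' aW adjW
      obtain ⟨N, hN⟩ := PerfC.RpushBound.exists_isLE_Rpush (f' ⁻¹ᵁ W).ι
      obtain ⟨N', hN'⟩ := PerfC.RpushBound.exists_isLE_Rpush W.ι
      refine bddOn_sup f' hf' a' adj' S W hS hj ⟨N', fun C n => hN' C n⟩ ⟨d + N, fun R n hR => ?_⟩
      have h1 := hN (aW.obj R).obj (n + d) (aW.obj R).property (hd R n hR)
      rw [← add_assoc]
      exact isLE_of_iso' ((ObjectProperty.ι _).mapIso (e.app R)).symm _ h1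
  obtain ⟨d, hd⟩ := key
  exact ⟨d, fun K n hK => hd K n (fun N hN φ => (isZero_of_vanOn_top hN).eq_of_src _ _) hK⟩

end Main

end K478.TorBdd
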