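import Groth.Agent.Dual3.K478.TorAdj
import Groth.Agent.LoccohB.RightAdj2
import Groth.Agent.PerfA.CompactPerf

/-!
# Right adjoints commuting with coproducts and tor-independent base change

If the right adjoint `a` of `Rf_*` commutes with coproducts then `Rf'_*` preserves perfect complexes and `a'` commutes
with coproducts, for a tor-independent cartesian square.
-/

set_option autoImplicit false

universe u

open CategoryTheory CategoryTheory.Limits AlgebraicGeometry Pretriangulated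

attribute [local instance] HasDerivedCategory.standard

namespace K478.TorCop

open Groth.Agent Groth.Agent.LoccohB Groth.Agent.LoccohB.LocAdj Groth.Agent.PerfA.Restrict
  Groth.Agent.LoccohB.SuppInd K478.TorBC K478.TorAdj Groth.Agent.CohtopA.Compact
  Groth.Agent.CohtopA.BrownW Groth.Agent.LoccohB.DQCohTri

/-- Compactness in `D_QCoh`. -/
theorem isCompactObjRel_of_isCompactW {X : Scheme.{u}} (K : DCoh.DQCoh X) (hK : IsCompactW.{u} K) :
    PerfAux.IsCompactObjRel.{u} (fun L : DCoh.D X => DCoh.IsQCohD L) K.obj := by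
  rw [PerfA.CompactRel.isCompactObjRel_iff]
  intro ι L _ hL f
  let L' : ι → DCoh.DQCoh X := fun i => ⟨L i, hL i⟩
  have hc : IsColimit (Cofan.mk (∐ L') (Sigma.ι L')) := coproductIsCoproduct L'
  have hc' : IsColimit (Cofan.mk ((DCoh.IsQCohD (X := X)).ι.obj (∐ L'))
      (fun i => (DCoh.IsQCohD (X := X)).ι.map (Sigma.ι L' i))) :=
    isColimitCofanMkObjOfIsColimit _ _ _ hc
  refine IsFiniteSum.of_iso (X := L) hc' (coproductIsCoproduct L) (fun φ => ?_) f
  obtain ⟨s, γ, hγ⟩ := hK ι L' _ hc (ObjectProperty.homMk φ)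
  refine ⟨s, fun i => (γ i).hom, ?_⟩
  have h1 := congrArg (fun t => (DCoh.IsQCohD (X := X)).ι.map t) hγ
  simp only [Functor.map_sum] at h1
  exact h1


section Main

variable {X Y X' Y' : Scheme.{u}} [CompactSpace X] [QuasiSeparatedSpace X] [CompactSpace Y]
  [QuasiSeparatedSpace Y] [CompactSpace X'] [QuasiSeparatedSpace X'] [CompactSpace Y']
  [QuasiSeparatedSpace Y'] {f : X ⟶ Y} {g : Y' ⟶ Y} {f' : X' ⟶ Y'} {g' : X' ⟶ X}
  (sq : IsPullback g' f' f g) (htor : TorIndep f g)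
  [DCoh.HasRpush f] (hf : Pres f) (a : DCoh.DQCoh Y ⥤ DCoh.DQCoh X) (adj : Rq f hf ⊣ a)
  (hcop : ∀ J : Type u, PreservesColimitsOfShape (Discrete J) a) [DCoh.HasRpush f']

omit [CompactSpace Y] in
include sq htor adj hcop in
/-- `Rf'_*` preserves perfect complexes. -/
theorem isPerfect_Rpush (P : DCoh.D X') (hP : DCoh.IsPerfect P) :
    DCoh.IsPerfect ((DCoh.Rpush f').obj P) := by
  refine PerfA.PerfLocal.isPerfect_of_restrictD_opens _ fun y => ?_
  obtain ⟨V, hV, hyV, -⟩ := exists_isAffineOpen_mem_and_subset (x := g y) (U := (⊤ : Y.Opens)) trivial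
  obtain ⟨W, hW, hyW, hWV⟩ := exists_isAffineOpen_mem_and_subset (x := y) (U := g ⁻¹ᵁ V) hyV
  refine ⟨W, hyW, ?_⟩
  have : IsAffine W := hW
  have : CompactSpace W := inferInstance
  have : QuasiSeparatedSpace (f' ⁻¹ᵁ W : Scheme.{u}) :=
    quasiSeparatedSpace_of_quasiSeparated (f' ⁻¹ᵁ W).ι
  have : QuasiSeparated f' := (quasiSeparated_iff_quasiSeparatedSpace f').2 inferInstance
  have : CompactSpace (f' ⁻¹ᵁ W : Scheme.{u}) :=
    (quasiCompact_iff_compactSpace (f' ∣_ W)).1 inferInstance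
  have := Dcoh.DerSch.hasRpush (f' ∣_ W)
  have hfW : Pres (f' ∣_ W) := fun K hK => S0998.result _ K hK
  have hleft : (Rq (f' ∣_ W) hfW).IsLeftAdjoint := S1766.result _ _ (f' ∣_ W) hfW
  let aW := (Rq (f' ∣_ W) hfW).rightAdjoint
  let adjW : Rq (f' ∣_ W) hfW ⊣ aW := Adjunction.ofIsLeftAdjoint _
  have hcW : ∀ J : Type u, PreservesColimitsOfShape (Discrete J) aW := fun J =>
    preservesCoproducts_small sq htor hf a adj W hW hfW aW adjW V hV hWV J
  have : aW.Additive := adjW.right_adjoint_additive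
  let PW : DCoh.DQCoh (f' ⁻¹ᵁ W : Scheme.{u}) := ⟨(restrictD (f' ⁻¹ᵁ W).ι).obj P,
    PerfA.QCohD.isQCohD_restrictD _ (PerfA.QCohD.isQCohD_of_isPerfect P hP)⟩
  have h1 : IsCompactW.{u} PW := RightAdj.isCompactW_of_isPerfect PW
    (PerfA.PerfLocal.isPerfect_restrictD (f' ⁻¹ᵁ W).ι hP)
  have h2 : IsCompactW.{u} ((Rq (f' ∣_ W) hfW).obj PW) := isCompactW_of_adj adjW h1
  have h3 : DCoh.IsPerfect ((Rq (f' ∣_ W) hfW).obj PW).obj :=
    PerfA.CompactPerf.isPerfect_of_isAffine _ ((Rq (f' ∣_ W) hfW).obj PW).property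
      (isCompactObjRel_of_isCompactW _ h2)
  obtain ⟨e⟩ := Dcoh.DerSch.exists_rpushRestrictIso f' (f' ∣_ W) (f' ⁻¹ᵁ W).ι W.ι
    (isPullback_morphismRestrict f' W).flip
  exact PerfA.PerfLocal.isPerfect_of_iso (e.app P).symm h3

include sq htor adj hcop in
/-- `a'` commutes with coproducts if `a` does. -/
theorem preservesCoproducts (hf' : Pres f') (a' : DCoh.DQCoh Y' ⥤ DCoh.DQCoh X') (adj' : Rq f' hf' ⊣ a')
    (J : Type u) : PreservesColimitsOfShape (Discrete J) a' :=
  RightAdj2.preservesCoproducts_of_perfect f' hf' (isPerfect_Rpush sq htor hf a adj hcop) a' adj' J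

end Main

end K478.TorCop
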